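import Mathlib

/-!
Tutte's method: a chain of involutions `x i` moved along by `t`, with `2^n` elements in the group
generated by `n ≤ k` consecutive ones, and no non-trivial subgroup normalized by two consecutive
groups of `k + 1` involutions. Then `k ≤ 4`.
-/

set_option autoImplicit false

namespace Cfsg.Agent.PermGroups.CubicSuborbit

variable {G : Type*} [Group G]

/-- The group generated by `x i, ..., x (i + n - 1)`. -/
def seg (x : ℤ → G) (i : ℤ) (n : ℕ) : Subgroup G :=
  Subgroup.closure (x '' Set.Ico i (i + n))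

/-- Involutions along a shift. -/
structure Chain (x : ℤ → G) (t : G) (k : ℕ) : Prop where
  conj : ∀ i, t * x i * t⁻¹ = x (i + 1)
  sq : ∀ i, x i * x i = 1
  card : ∀ i n, n ≤ k → Nat.card (seg x i n) = 2 ^ n

/-- No non-trivial subgroup is normalized by two consecutive long segments. -/
def NoNorm (x : ℤ → G) (k : ℕ) : Prop :=
  ∀ (i : ℤ) (X : Subgroup G), X ≠ ⊥ → X ≤ seg x i (k + 1) →
    seg x i (k + 1) ≤ Subgroup.normalizer (X : Set G) →
    seg x (i + 1) (k + 1) ≤ Subgroup.normalizer (X : Set G) → False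

variable {x : ℤ → G} {t : G} {k : ℕ}

theorem mem_seg {i j : ℤ} {n : ℕ} (h1 : i ≤ j) (h2 : j < i + n) : x j ∈ seg x i n :=
  Subgroup.subset_closure ⟨j, ⟨h1, h2⟩, rfl⟩

theorem seg_le {i : ℤ} {n : ℕ} {L : Subgroup G} (h : ∀ j, i ≤ j → j < i + n → x j ∈ L) : seg x i n ≤ L :=
  (Subgroup.closure_le L).2 (by rintro _ ⟨j, ⟨h1, h2⟩, rfl⟩; exact h j h1 h2)

theorem seg_mono {i i' : ℤ} {n n' : ℕ} (h1 : i' ≤ i) (h2 : i + n ≤ i' + n') : seg x i n ≤ seg x i' n' :=
  seg_le fun _ a b => mem_seg (h1.trans a) (b.trans_le h2)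

theorem seg_zero (i : ℤ) : seg x i 0 = ⊥ :=
  eq_bot_iff.2 (seg_le fun j h1 h2 => absurd h2 (by omega))

theorem seg_rev (c i : ℤ) (n : ℕ) : seg (fun j => x (c - j)) i n = seg x (c - i - n + 1) n := by
  refine le_antisymm (seg_le fun j h1 h2 => mem_seg (by omega) (by omega)) (seg_le fun j h1 h2 => ?_)
  have := mem_seg (x := fun j => x (c - j)) (i := i) (j := c - j) (n := n) (by omega) (by omega)
  simpa using this

theorem Chain.rev (hC : Chain x t k) (c : ℤ) : Chain (fun j => x (c - j)) t⁻¹ k where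
  conj i := by
    rw [inv_inv, show c - i = c - (i + 1) + 1 by omega, ← hC.conj]
    group
  sq i := hC.sq _
  card i n hn := by rw [seg_rev]; exact hC.card _ n hn

theorem Chain.commute_shift (hC : Chain x t k) (i j m : ℤ) : Commute (x i) (x j) ↔ Commute (x (i + m)) (x (j + m)) := by
  induction m with
  | zero => simp
  | succ n ih =>
    rw [ih, show i + (↑n + 1) = i + n + 1 by omega, show j + (↑n + 1) = j + n + 1 by omega, ← hC.conj, ← hC.conj]
    exact (Commute.conj_iff t).symm
  | pred n ih =>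
    rw [ih, show i + -↑n = i + (-↑n - 1) + 1 by omega, show j + -↑n = j + (-↑n - 1) + 1 by omega, ← hC.conj,
      ← hC.conj]
    exact Commute.conj_iff t

theorem Chain.inv_eq (hC : Chain x t k) (i : ℤ) : (x i)⁻¹ = x i :=
  inv_eq_of_mul_eq_one_right (hC.sq i)

/-- Involutions closer than `l` commute. -/
def Near (x : ℤ → G) (l : ℕ) : Prop :=
  ∀ i j : ℤ, i - j < l → j - i < l → Commute (x i) (x j)

theorem Chain.near_of (hC : Chain x t k) {l : ℕ} (h : ∀ n < l, Commute (x 0) (x (n : ℤ))) : Near x l := by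
  intro i j h1 h2
  rcases le_total i j with hij | hij
  · have := (hC.commute_shift 0 ((j - i).toNat : ℤ) i).1 (h _ (by omega))
    rwa [zero_add, Int.toNat_of_nonneg (by omega), sub_add_cancel] at this
  · have := (hC.commute_shift 0 ((i - j).toNat : ℤ) j).1 (h _ (by omega))
    rw [zero_add, Int.toNat_of_nonneg (by omega), sub_add_cancel] at this
    exact this.symm

theorem commute_seg {i : ℤ} {n : ℕ} {g : G} (h : ∀ j, i ≤ j → j < i + n → Commute g (x j)) {y : G}
    (hy : y ∈ seg x i n) : Commute g y := by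
  have : seg x i n ≤ Subgroup.centralizer ({g} : Set G) :=
    seg_le fun j a b => Subgroup.mem_centralizer_singleton_iff.2 (h j a b).symm.eq
  exact (Subgroup.mem_centralizer_singleton_iff.1 (this hy)).symm

theorem seg_commute {i : ℤ} {n l : ℕ} (h : Near x l) (hn : n ≤ l) {y z : G} (hy : y ∈ seg x i n)
    (hz : z ∈ seg x i n) : Commute y z :=
  commute_seg (fun j a b => (commute_seg (fun j' a' b' => h j j' (by omega) (by omega)) hy).symm) hz

/-- An element of a commutative segment, split at its first involution. -/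
theorem Chain.split (hC : Chain x t k) {i : ℤ} {n l : ℕ} (h : Near x l) (hn : n + 1 ≤ l) {y : G}
    (hy : y ∈ seg x i (n + 1)) : y ∈ seg x (i + 1) n ∨ x i * y ∈ seg x (i + 1) n := by
  unfold seg at hy
  induction hy using Subgroup.closure_induction with
  | mem z hz =>
    obtain ⟨j, ⟨h1, h2⟩, rfl⟩ := hz
    rcases eq_or_lt_of_le h1 with rfl | h1
    · exact Or.inr (by rw [hC.sq]; exact Subgroup.one_mem _)
    · exact Or.inl (mem_seg (by omega) (by omega))
  | one => exact Or.inl (Subgroup.one_mem _)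
  | mul a b ha hb iha ihb =>
    have hca : Commute (x i) a := seg_commute h hn (mem_seg le_rfl (by omega)) ha
    rcases iha with iha | iha <;> rcases ihb with ihb | ihb
    · exact Or.inl (Subgroup.mul_mem _ iha ihb)
    · exact Or.inr (by rw [← mul_assoc, hca.eq, mul_assoc]; exact Subgroup.mul_mem _ iha ihb)
    · exact Or.inr (by rw [← mul_assoc]; exact Subgroup.mul_mem _ iha ihb)
    · refine Or.inl ?_
      have e : a * b = (x i * a) * (x i * b) := by
        rw [hca.eq, mul_assoc a (x i), ← mul_assoc (x i) (x i), hC.sq, one_mul]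
      rw [e]
      exact Subgroup.mul_mem _ iha ihb
  | inv a ha iha =>
    have hca : Commute (x i) a := seg_commute h hn (mem_seg le_rfl (by omega)) ha
    rcases iha with iha | iha
    · exact Or.inl (Subgroup.inv_mem _ iha)
    · refine Or.inr ?_
      have := Subgroup.inv_mem _ iha
      rwa [mul_inv_rev, hC.inv_eq, ← hca.inv_right.eq] at this

/-- Commutative segments are direct products. -/
theorem Chain.disjoint [Finite G] (hC : Chain x t k) {i : ℤ} {m n l : ℕ} (h : Near x l) (hl : m + n ≤ l)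
    (hk : m + n ≤ k) {y : G} (hy : y ∈ seg x i m) (hy' : y ∈ seg x (i + m) n) : y = 1 := by
  set A := seg x i m
  set B := seg x (i + m) n
  have hA : A ≤ seg x i (m + n) := seg_mono le_rfl (by omega)
  have hB : B ≤ seg x i (m + n) := seg_mono (by omega) (by omega)
  let f : A × B → seg x i (m + n) := fun p => ⟨(p.1 : G) * p.2, Subgroup.mul_mem _ (hA p.1.2) (hB p.2.2)⟩
  have hs : Function.Surjective f := by
    intro z
    have hz : (z : G) ∈ A ⊔ B := by
      refine seg_le (fun j a b => ?_) z.2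
      by_cases hj : j < i + m
      · exact (le_sup_left : A ≤ A ⊔ B) (mem_seg a hj)
      · exact (le_sup_right : B ≤ A ⊔ B) (mem_seg (by omega) (by omega))
    have hn : A ≤ Subgroup.normalizer (B : Set G) := fun a ha => Subgroup.mem_normalizer_iff.2 fun b => by
      constructor
      · intro hb
        rw [(seg_commute h hl (hA ha) (hB hb)).eq, mul_inv_cancel_right]; exact hb
      · intro hb
        have hb' : b ∈ seg x i (m + n) := by
          have := Subgroup.mul_mem _ (Subgroup.mul_mem _ (Subgroup.inv_mem _ (hA ha)) (hB hb)) (hA ha)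
          simpa [mul_assoc] using this
        rwa [(seg_commute h hl (hA ha) hb').eq, mul_inv_cancel_right] at hb
    rw [← SetLike.mem_coe, Subgroup.coe_mul_of_left_le_normalizer_right A B hn, Set.mem_mul] at hz
    obtain ⟨a, ha, b, hb, hab⟩ := hz
    exact ⟨(⟨a, ha⟩, ⟨b, hb⟩), Subtype.ext hab⟩
  have hbij := (Nat.bijective_iff_surjective_and_card f).2 ⟨hs, by
    rw [Nat.card_prod, hC.card i m (by omega), hC.card _ n (by omega), hC.card i (m + n) hk, pow_add]⟩
  have := hbij.1 (a₁ := (⟨y, hy⟩, 1)) (a₂ := (1, ⟨y, hy'⟩)) (Subtype.ext (by simp [f]))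
  simpa using congrArg (fun p : A × B => (p.1 : G)) this

theorem Chain.ne_one (hC : Chain x t k) (hk : 1 ≤ k) (i : ℤ) : x i ≠ 1 := by
  intro h
  have := hC.card i 1 hk
  rw [eq_bot_iff.2 (seg_le (L := ⊥) fun j a b => by rw [show j = i by omega, h]; exact Subgroup.one_mem _),
    Subgroup.card_bot] at this
  norm_num at this

/-- The commutator of the ends of a short segment lies strictly inside. -/
theorem Chain.commutator_mem [Finite G] (hC : Chain x t k) {i : ℤ} {n : ℕ} (hn : n + 2 ≤ k) :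
    x i * x (i + n + 1) * x i * x (i + n + 1) ∈ seg x (i + 1) n := by
  set L := seg x i (n + 2)
  set A := seg x i (n + 1)
  set B := seg x (i + 1) (n + 1)
  set C := seg x (i + 1) n
  have hidx : ∀ (U : Subgroup G), U ≤ L → Nat.card U = 2 ^ (n + 1) → (U.subgroupOf L).Normal := by
    intro U hU hc
    apply Subgroup.normal_of_index_eq_two
    have h1 := (U.subgroupOf L).card_mul_index
    rw [Nat.card_congr (Subgroup.subgroupOfEquivOfLe hU).toEquiv, hc, hC.card i (n + 2) hn, pow_succ 2 (n + 1)] at h1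
    exact Nat.eq_of_mul_eq_mul_left (by positivity) h1
  have hAL : A ≤ L := seg_mono le_rfl (by omega)
  have hBL : B ≤ L := seg_mono (by omega) (by omega)
  have hA := hidx A hAL (hC.card _ _ (by omega))
  have hB := hidx B hBL (hC.card _ _ (by omega))
  set a : L := ⟨x i, mem_seg le_rfl (by omega)⟩
  set b : L := ⟨x (i + n + 1), mem_seg (by omega) (by omega)⟩
  have ha : a ∈ A.subgroupOf L := show x i ∈ A from mem_seg le_rfl (by omega)
  have hb : b ∈ B.subgroupOf L := show x (i + n + 1) ∈ B from mem_seg (by omega) (by omega)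
  have e : a * b * a * b = a * (b * a * b⁻¹) := by
    rw [show b⁻¹ = b from Subtype.ext (hC.inv_eq _)]; group
  have e' : a * b * a * b = (a * b * a⁻¹) * b := by
    rw [show a⁻¹ = a from Subtype.ext (hC.inv_eq _)]
  have m1 : a * b * a * b ∈ A.subgroupOf L := e ▸ Subgroup.mul_mem _ ha (hA.conj_mem a ha b)
  have m2 : a * b * a * b ∈ B.subgroupOf L := e' ▸ Subgroup.mul_mem _ (hB.conj_mem b hb a) hb
  -- `A ⊓ B = C`
  have hCA : C ≤ A ⊓ B := le_inf (seg_mono (by omega) (by omega)) (seg_mono le_rfl (by omega))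
  have hlt : Nat.card ↥(A ⊓ B : Subgroup G) < Nat.card A := by
    by_contra h
    have h' : A ≤ B := (Subgroup.eq_of_le_of_card_ge inf_le_left (not_lt.1 h)).ge.trans inf_le_right
    have h2 : L ≤ B := seg_le fun j p q => by
      rcases eq_or_lt_of_le p with rfl | p
      · exact h' (mem_seg le_rfl (by omega))
      · exact mem_seg (by omega) (by omega)
    have := Subgroup.card_le_of_le h2
    rw [hC.card i (n + 2) hn, hC.card _ (n + 1) (by omega)] at this
    have := Nat.pow_lt_pow_right (show 1 < 2 by norm_num) (show n + 1 < n + 2 by omega)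
    omega
  have heq : A ⊓ B = C := by
    refine (Subgroup.eq_of_le_of_card_ge hCA ?_).symm
    rw [hC.card _ (n + 1) (by omega)] at hlt
    obtain ⟨e, -, he⟩ := (Nat.dvd_prime_pow Nat.prime_two).1
      ((hC.card i (n + 1) (by omega)) ▸ Subgroup.card_dvd_of_le (inf_le_left : A ⊓ B ≤ A))
    rw [he] at hlt ⊢
    rw [hC.card _ n (by omega)]
    exact Nat.pow_le_pow_right (by norm_num) (Nat.lt_succ_iff.1 ((Nat.pow_lt_pow_iff_right (by norm_num)).1 hlt))
  exact heq ▸ ⟨m1, m2⟩

/-- One step of Tutte's argument. -/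
theorem Chain.step [Finite G] (hC : Chain x t k) {l : ℕ} (hN : Near x l) (hl : ¬ Commute (x 0) (x (l : ℤ)))
    {m : ℕ} (hm : 1 ≤ m) (hml : m < l) (hmk : m + l < k)
    (hy : x 0 * x (l : ℤ) * x 0 * x (l : ℤ) ∈ seg x (m : ℤ) (l - m)) :
    x 0 * x (l : ℤ) * x 0 * x (l : ℤ) ∈ seg x ((m : ℤ) + 1) (l - m - 1) := by
  set y := x 0 * x (l : ℤ) * x 0 * x (l : ℤ) with hy'
  obtain ⟨n, hn⟩ : ∃ n, l - m = n + 1 := ⟨l - m - 1, by omega⟩
  rw [hn] at hy ⊢
  rw [Nat.add_sub_cancel]
  refine (hC.split hN (by omega) hy).resolve_right fun hr => ?_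
  set z := x ((m : ℤ) + l) with hz
  have hzl : Commute z (x (l : ℤ)) := hN _ _ (by omega) (by omega)
  have hzz : z * z = 1 := hC.sq _
  set w := x 0 * z * x 0 * z with hw
  have hwm : w ∈ seg x 1 (m + l - 1) := by
    have := hC.commutator_mem (i := 0) (n := m + l - 1) (by omega)
    rwa [show (0 : ℤ) + (m + l - 1 : ℕ) + 1 = (m : ℤ) + l by omega, zero_add] at this
  have hwl : Commute (x (l : ℤ)) w := commute_seg (fun j a b => hN _ _ (by omega) (by omega)) hwm
  have hx0 : z * x 0 * z = x 0 * w := by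
    rw [hw, show x 0 * (x 0 * z * x 0 * z) = (x 0 * x 0) * (z * x 0 * z) by group, hC.sq, one_mul]
  have hinv : (x 0 * w) * (x 0 * w) = 1 := by
    rw [← hx0, show z * x 0 * z * (z * x 0 * z) = z * (x 0 * (z * z) * x 0) * z by group, hzz, mul_one, hC.sq,
      mul_one, hzz]
  have hxl : z * x (l : ℤ) * z = x (l : ℤ) := by rw [hzl.eq, mul_assoc, hzz, mul_one]
  have hzy : z * y * z = y := by
    have e1 : z * y * z = (z * x 0 * z) * (z * x (l : ℤ) * z) * (z * x 0 * z) * (z * x (l : ℤ) * z) := by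
      rw [show (z * x 0 * z) * (z * x (l : ℤ) * z) * (z * x 0 * z) * (z * x (l : ℤ) * z)
        = z * x 0 * (z * z) * x (l : ℤ) * (z * z) * x 0 * (z * z) * x (l : ℤ) * z by group, hzz]
      rw [hy']; group
    rw [e1, hx0, hxl]
    have e2 : w * x 0 * w = x 0 := by
      have := congrArg (fun g => x 0 * g) hinv
      simp only [mul_one, ← mul_assoc, hC.sq, one_mul] at this
      exact this
    calc x 0 * w * x (l : ℤ) * (x 0 * w) * x (l : ℤ)
        = x 0 * (w * x (l : ℤ)) * x 0 * w * x (l : ℤ) := by group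
      _ = x 0 * x (l : ℤ) * (w * x 0 * w) * x (l : ℤ) := by rw [← hwl.eq]; group
      _ = y := by rw [e2]
  have hzy' : Commute z y := by
    show z * y = y * z
    calc z * y = z * y * (z * z) := by rw [hzz, mul_one]
      _ = (z * y * z) * z := by group
      _ = y * z := by rw [hzy]
  have hzr : Commute z (x (m : ℤ) * y) := commute_seg (fun j a b => hN _ _ (by omega) (by omega)) hr
  have hzm : Commute z (x (m : ℤ)) := by
    have := hzr.mul_right hzy'.inv_right
    rwa [mul_inv_cancel_right] at this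
  apply hl
  rw [hC.commute_shift 0 (l : ℤ) (m : ℤ), zero_add, add_comm]
  exact hzm.symm

theorem Chain.iterate [Finite G] (hC : Chain x t k) {l : ℕ} (hN : Near x l) (hl : ¬ Commute (x 0) (x (l : ℤ)))
    (h2 : 2 ≤ l) (hlk : l < k) {m : ℕ} (hm : 1 ≤ m) (hml : m ≤ l) (hmk : m + l ≤ k) :
    x 0 * x (l : ℤ) * x 0 * x (l : ℤ) ∈ seg x (m : ℤ) (l - m) := by
  induction m with
  | zero => omega
  | succ m ih =>
    rcases Nat.eq_zero_or_pos m with rfl | hpos
    · have := hC.commutator_mem (i := 0) (n := l - 1) (by omega)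
      rwa [show (0 : ℤ) + (l - 1 : ℕ) + 1 = (l : ℤ) by omega, zero_add] at this
    · have := hC.step hN hl hpos (by omega) (by omega) (ih hpos (by omega) (by omega))
      rw [Nat.sub_sub] at this
      push_cast
      exact this

/-- The arithmetic conditions on the first non-commuting distance. -/
theorem Chain.bounds [Finite G] (hC : Chain x t k) (hno : NoNorm x k) (hk : 2 ≤ k) :
    ∃ l : ℕ, 2 ≤ l ∧ l ≤ k ∧ Near x l ∧ ¬ Commute (x 0) (x (l : ℤ)) ∧ 2 * l ≤ k + 2 ∧ 2 * k ≤ 3 * l := by
  classical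
  have hcentral : ∀ (i j : ℤ), i + 1 ≤ j → j < i + (k + 1 : ℕ) →
      ¬ ∀ u, i ≤ u → u < i + (k + 2 : ℕ) → Commute (x j) (x u) := by
    intro i j h1 h2 h
    refine hno i (Subgroup.zpowers (x j)) (fun hb => hC.ne_one (by omega) j (Subgroup.zpowers_eq_bot.1 hb))
      (Subgroup.zpowers_le.2 (mem_seg (by omega) h2)) ?_ ?_
    all_goals
      refine seg_le fun u p q => ?_
      refine Subgroup.centralizer_le_normalizer _ (Subgroup.mem_centralizer_iff.2 ?_)
      rintro _ ⟨e, rfl⟩
      exact ((h u (by omega) (by omega)).zpow_left e).eq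
  have hex : ∃ n : ℕ, ¬ Commute (x 0) (x (n : ℤ)) ∧ n ≤ k := by
    by_contra hcon
    push Not at hcon
    have hN := hC.near_of (l := k + 1) fun n hn => by
      by_contra h
      exact absurd (hcon n h) (by omega)
    exact hcentral 0 1 (by omega) (by omega) fun u p q => hN _ _ (by omega) (by omega)
  set l := Nat.find hex
  obtain ⟨hl, hlk⟩ := Nat.find_spec hex
  have hN : Near x l := hC.near_of fun n hn => by
    by_contra h
    exact Nat.find_min hex hn ⟨h, by omega⟩
  have h2 : 2 ≤ l := by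
    by_contra h
    rcases (show l = 0 ∨ l = 1 by omega) with e | e <;>
      replace hl : ¬ Commute (x 0) (x ((l : ℕ) : ℤ)) := hl <;> rw [e] at hl
    · exact hl (Commute.refl _)
    · have hm : x 0 * x (1 : ℤ) * x 0 * x (1 : ℤ) ∈ seg x 1 0 := hC.commutator_mem (i := 0) (n := 0) hk
      rw [seg_zero, Subgroup.mem_bot] at hm
      apply hl
      show x 0 * x (1 : ℤ) = x (1 : ℤ) * x 0
      calc x 0 * x (1 : ℤ) = (x 0 * x (1 : ℤ) * x 0 * x (1 : ℤ)) * (x (1 : ℤ))⁻¹ * (x 0)⁻¹ := by group
        _ = x (1 : ℤ) * x 0 := by rw [hm, one_mul, hC.inv_eq, hC.inv_eq]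
  refine ⟨l, h2, hlk, hN, hl, ?_, ?_⟩
  · by_contra h
    exact hcentral 0 ((k : ℤ) + 2 - l) (by omega) (by omega) fun u p q => hN _ _ (by omega) (by omega)
  · by_contra h
    set y := x 0 * x (l : ℤ) * x 0 * x (l : ℤ) with hy
    have hlk' : l < k := by omega
    have hy1 : y ≠ 1 := fun he => hl (show x 0 * x (l : ℤ) = x (l : ℤ) * x 0 by
      calc x 0 * x (l : ℤ) = y * (x (l : ℤ))⁻¹ * (x 0)⁻¹ := by rw [hy]; group
        _ = x (l : ℤ) * x 0 := by rw [he, one_mul, hC.inv_eq, hC.inv_eq])
    set m := min l (k - l) with hm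
    have a1 := hC.iterate hN hl h2 hlk' (m := m) (by omega) (by omega) (by omega)
    have hC' := hC.rev l
    have hN' : Near (fun j => x ((l : ℤ) - j)) l := fun i j p q => hN _ _ (by omega) (by omega)
    have a2 := hC'.iterate hN' (by simpa using fun h => hl h.symm) h2 hlk' (m := m) (by omega) (by omega) (by omega)
    simp only [sub_zero, sub_self] at a2
    have e : x (l : ℤ) * x 0 * x (l : ℤ) * x 0 = y⁻¹ := by
      rw [hy]; simp [mul_inv_rev, hC.inv_eq, mul_assoc]
    rw [seg_rev, e, Subgroup.inv_mem_iff] at a2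
    rcases Nat.lt_or_ge m l with hml | hml
    · have a2' : y ∈ seg x 1 (m - 1) := seg_mono (by omega) (by omega) a2
      exact hy1 (hC.disjoint hN (i := 1) (m := m - 1) (n := l - m) (by omega) (by omega) a2'
        (by rwa [show (1 : ℤ) + (m - 1 : ℕ) = (m : ℤ) by omega]))
    · rw [show l - m = 0 by omega, seg_zero, Subgroup.mem_bot] at a1
      exact hy1 a1

/-- Conjugation by an involution preserves a segment once it does so on generators. -/
theorem seg_le_normalizer [Finite G] (hC : Chain x t k) {i i' : ℤ} {n n' : ℕ}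
    (h : ∀ u, i ≤ u → u < i + n → ∀ j, i' ≤ j → j < i' + n' → x u * x j * x u ∈ seg x i' n') :
    seg x i n ≤ Subgroup.normalizer (seg x i' n' : Set G) := by
  refine seg_le fun u a b => ?_
  have key : ∀ y ∈ seg x i' n', x u * y * (x u)⁻¹ ∈ seg x i' n' := by
    intro y hy
    have : seg x i' n' ≤ (seg x i' n').comap (MulAut.conj (x u)).toMonoidHom := seg_le fun j p q => by
      show x u * x j * (x u)⁻¹ ∈ seg x i' n'
      rw [hC.inv_eq]; exact h u a b j p q
    exact this hy
  rw [Subgroup.mem_normalizer_iff]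
  refine fun y => ⟨key y, fun hy => ?_⟩
  have := key _ hy
  simpa [hC.inv_eq, ← mul_assoc, hC.sq, mul_assoc _ (x u) (x u)] using this

theorem Chain.seg_conj (hC : Chain x t k) {i : ℤ} {n : ℕ} {y : G} (hy : y ∈ seg x i n) :
    t * y * t⁻¹ ∈ seg x (i + 1) n := by
  have : seg x i n ≤ (seg x (i + 1) n).comap (MulAut.conj t).toMonoidHom := seg_le fun j p q => by
    show t * x j * t⁻¹ ∈ seg x (i + 1) n
    rw [hC.conj]; exact mem_seg (by omega) (by omega)
  exact this hy

theorem Chain.seg_conj_inv (hC : Chain x t k) {i : ℤ} {n : ℕ} {y : G} (hy : y ∈ seg x (i + 1) n) :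
    t⁻¹ * y * t ∈ seg x i n := by
  have : seg x (i + 1) n ≤ (seg x i n).comap (MulAut.conj t⁻¹).toMonoidHom := seg_le fun j p q => by
    show t⁻¹ * x j * t⁻¹⁻¹ ∈ seg x i n
    rw [show j = j - 1 + 1 by omega, ← hC.conj, show t⁻¹ * (t * x (j - 1) * t⁻¹) * t⁻¹⁻¹ = x (j - 1) by group]
    exact mem_seg (by omega) (by omega)
  simpa using this hy

/-- Seven is impossible. -/
theorem Chain.ne_six [Finite G] (hC : Chain x t 6) (hno : NoNorm x 6) : False := by
  obtain ⟨l, h2, -, hN, hl, hu, hlo⟩ := hC.bounds hno (by norm_num)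
  obtain rfl : l = 4 := by omega
  set y := x 0 * x (4 : ℤ) * x 0 * x (4 : ℤ) with hy
  have a1 : y ∈ seg x 2 2 := hC.iterate hN hl h2 (by norm_num) (m := 2) (by norm_num) (by norm_num) (by norm_num)
  have hC' := hC.rev (4 : ℤ)
  have hN' : Near (fun j => x ((4 : ℤ) - j)) 4 := fun i j p q => hN _ _ (by omega) (by omega)
  have a2 := hC'.iterate hN' (by simpa using fun h => hl h.symm) h2 (by norm_num) (m := 2) (by norm_num) (by norm_num)
    (by norm_num)
  simp only [sub_zero, Nat.cast_ofNat, sub_self] at a2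
  rw [seg_rev, show x (4 : ℤ) * x 0 * x (4 : ℤ) * x 0 = y⁻¹ by rw [hy]; simp [mul_inv_rev, hC.inv_eq, mul_assoc],
    Subgroup.inv_mem_iff] at a2
  norm_num at a2
  have hy2 : y ∈ seg x 2 1 := by
    rcases hC.split (i := 1) hN (by norm_num : 1 + 1 ≤ 4) a2 with h | h
    · simpa using h
    · exfalso
      have hm : x 1 * y ∈ seg x 2 1 := by simpa using h
      have : x 1 ∈ seg x 2 2 := by
        have := Subgroup.mul_mem _ (seg_mono (i' := 2) (n' := 2) le_rfl (by norm_num) hm) (Subgroup.inv_mem _ a1)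
        simpa using this
      exact hC.ne_one (by norm_num) 1 (hC.disjoint hN (i := 1) (m := 1) (n := 2) (by norm_num) (by norm_num)
        (mem_seg le_rfl (by norm_num)) (by simpa using this))
  set c := x 0 * x (5 : ℤ) * x 0 * x (5 : ℤ) with hc
  have hc1 : c ∈ seg x 1 4 := hC.commutator_mem (i := 0) (n := 4) (by norm_num)
  have hcc : c * c = 1 := by
    have key : ∀ z ∈ seg x 1 4, z * z = 1 := by
      intro z hz
      unfold seg at hz
      induction hz using Subgroup.closure_induction with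
      | mem u hu => obtain ⟨j, -, rfl⟩ := hu; exact hC.sq j
      | one => exact one_mul 1
      | mul u v hu hv ihu ihv =>
        rw [show u * v * (u * v) = u * (v * u) * v by group, (seg_commute hN le_rfl hv hu).eq,
          show u * (u * v) * v = (u * u) * (v * v) by group, ihu, ihv, one_mul]
      | inv u hu ihu => rw [← mul_inv_rev, ihu, inv_one]
    exact key c hc1
  have hcinv : c⁻¹ = c := inv_eq_of_mul_eq_one_right hcc
  have e0 : x 0 * c * x 0 = c⁻¹ := by
    rw [hc]; simp only [mul_inv_rev, hC.inv_eq, ← mul_assoc, hC.sq, one_mul]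
  have e5 : x (5 : ℤ) * c * x (5 : ℤ) = c⁻¹ := by
    rw [hc]; simp only [mul_inv_rev, hC.inv_eq, ← mul_assoc]
    rw [mul_assoc _ (x (5 : ℤ)) (x (5 : ℤ)), hC.sq, mul_one]
  rw [hcinv] at e0 e5
  have hc0 : Commute (x 0) c := by
    show x 0 * c = c * x 0
    calc x 0 * c = x 0 * c * (x 0 * x 0) := by rw [hC.sq, mul_one]
      _ = (x 0 * c * x 0) * x 0 := by group
      _ = c * x 0 := by rw [e0]
  have hc5 : Commute (x (5 : ℤ)) c := by
    show x (5 : ℤ) * c = c * x (5 : ℤ)
    calc x (5 : ℤ) * c = x (5 : ℤ) * c * (x (5 : ℤ) * x (5 : ℤ)) := by rw [hC.sq, mul_one]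
      _ = (x (5 : ℤ) * c * x (5 : ℤ)) * x (5 : ℤ) := by group
      _ = c * x (5 : ℤ) := by rw [e5]
  have hc2 : c ∈ seg x 2 3 := by
    refine (hC.split (i := 1) hN (by norm_num : 3 + 1 ≤ 4) hc1).resolve_right fun h => ?_
    have h1 : Commute (x (5 : ℤ)) (x 1 * c) := commute_seg (fun j p q => hN _ _ (by omega) (by omega)) h
    have h15 : Commute (x (5 : ℤ)) (x 1) := by simpa using h1.mul_right hc5.inv_right
    exact hl ((hC.commute_shift 0 ((4 : ℕ) : ℤ) 1).2 (by simpa using h15.symm))
  have hc3 : c ∈ seg x 2 2 := by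
    have hCr := hC.rev (6 : ℤ)
    have hNr : Near (fun j => x ((6 : ℤ) - j)) 4 := fun i j p q => hN _ _ (by omega) (by omega)
    have hc2' : c ∈ seg (fun j => x ((6 : ℤ) - j)) 2 3 := by rw [seg_rev]; norm_num; exact hc2
    have := hCr.split hNr (by norm_num : 2 + 1 ≤ 4) hc2'
    rw [seg_rev] at this
    norm_num at this
    refine this.resolve_right fun h => ?_
    have h1 : Commute (x 0) (x (4 : ℤ) * c) := commute_seg (fun j p q => hN _ _ (by omega) (by omega)) h
    have h04 : Commute (x 0) (x (4 : ℤ)) := by simpa using h1.mul_right hc0.inv_right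
    exact hl (by simpa using h04)
  set X := seg x 1 4
  refine hno (-1) X (fun hb => hC.ne_one (by norm_num) 1 ?_) (seg_mono (by norm_num) (by norm_num)) ?_ ?_
  · have : x 1 ∈ X := mem_seg le_rfl (by norm_num)
    rwa [hb, Subgroup.mem_bot] at this
  all_goals
    refine seg_le_normalizer hC fun u p q j p' q' => ?_
    by_cases hd : u - j < 4 ∧ j - u < 4
    · rw [(hN u j hd.1 hd.2).eq, mul_assoc, hC.sq, mul_one]
      exact mem_seg (by omega) (by omega)
    · have hxj : x j ∈ X := mem_seg (by omega) (by omega)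
      suffices x j * x u * x j * x u ∈ X by
        have := Subgroup.mul_mem _ hxj this
        simpa [← mul_assoc, hC.sq] using this
      have cases' : (u = 5 ∧ j = 1) ∨ (u = 6 ∧ j = 2) ∨ (u = 6 ∧ j = 1) ∨ (u = 0 ∧ j = 4) ∨
          (u = -1 ∧ j = 3) ∨ (u = -1 ∧ j = 4) := by omega
      have cinv : ∀ a b : G, a * a = 1 → b * b = 1 → a * b * a * b = (b * a * b * a)⁻¹ := by
        intro a b ha hb
        simp [mul_inv_rev, inv_eq_of_mul_eq_one_right ha, inv_eq_of_mul_eq_one_right hb, mul_assoc]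
      have conj4 : ∀ (a b : ℤ) (g : G), g * (x a * x b * x a * x b) * g⁻¹
          = (g * x a * g⁻¹) * (g * x b * g⁻¹) * (g * x a * g⁻¹) * (g * x b * g⁻¹) := fun a b g => by group
      rcases cases' with ⟨rfl, rfl⟩ | ⟨rfl, rfl⟩ | ⟨rfl, rfl⟩ | ⟨rfl, rfl⟩ | ⟨rfl, rfl⟩ | ⟨rfl, rfl⟩
      · have := hC.seg_conj hy2
        rw [hy, conj4, hC.conj, hC.conj] at this
        norm_num at this
        exact seg_mono (by norm_num) (by norm_num) this
      · have := hC.seg_conj (hC.seg_conj hy2)
        rw [hy, conj4, hC.conj, hC.conj, conj4, hC.conj, hC.conj] at this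
        norm_num at this
        exact seg_mono (by norm_num) (by norm_num) this
      · have := hC.seg_conj hc3
        rw [hc, conj4, hC.conj, hC.conj] at this
        norm_num at this
        exact seg_mono (by norm_num) (by norm_num) this
      · rw [cinv _ _ (hC.sq _) (hC.sq _)]
        exact Subgroup.inv_mem _ ((seg_mono (by norm_num) (by norm_num) : seg x 2 1 ≤ X) hy2)
      · have := hC.seg_conj_inv (i := 1) (n := 1) (y := y) (by norm_num; exact hy2)
        rw [cinv _ _ (hC.sq _) (hC.sq _)]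
        refine Subgroup.inv_mem _ ((seg_mono (i := 1) (n := 1) (by norm_num) (by norm_num) : _ ≤ X) ?_)
        have e1 : x (-1) = t⁻¹ * x 0 * t := by rw [show (0 : ℤ) = -1 + 1 by norm_num, ← hC.conj]; group
        have e2 : x 3 = t⁻¹ * x 4 * t := by rw [show (4 : ℤ) = 3 + 1 by norm_num, ← hC.conj]; group
        rw [e1, e2]
        convert this using 1
        rw [hy]; group
      · have := hC.seg_conj_inv (i := 1) (n := 2) (y := c) (by norm_num; exact hc3)
        rw [cinv _ _ (hC.sq _) (hC.sq _)]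
        refine Subgroup.inv_mem _ ((seg_mono (i := 1) (n := 2) (by norm_num) (by norm_num) : _ ≤ X) ?_)
        have e1 : x (-1) = t⁻¹ * x 0 * t := by rw [show (0 : ℤ) = -1 + 1 by norm_num, ← hC.conj]; group
        have e2 : x 4 = t⁻¹ * x 5 * t := by rw [show (5 : ℤ) = 4 + 1 by norm_num, ← hC.conj]; group
        rw [e1, e2]
        convert this using 1
        rw [hc]; group

/-- Tutte's bound. -/
theorem Chain.le_four [Finite G] (hC : Chain x t k) (hno : NoNorm x k) : k ≤ 4 := by
  by_contra h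
  obtain ⟨l, -, -, -, -, hu, hlo⟩ := hC.bounds hno (by omega)
  obtain rfl : k = 6 := by omega
  exact hC.ne_six hno

end Cfsg.Agent.PermGroups.CubicSuborbit
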