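import Cfsg.Agent.PermGroups.CubicSuborbit.Chain

/-!
The groups generated by a full segment of Tutte's chain.
-/

set_option autoImplicit false

open Subgroup

namespace Cfsg.Agent.PermGroups.CubicSuborbit

variable {G : Type*} [Group G]

/-- A finite group of order `2 n` with an element of order `n` inverted by an involution outside its powers. -/
theorem nonempty_mulEquiv_dihedral {H : Type*} [Group H] [Finite H] {n : ℕ} [NeZero n] (a r : H)
    (hr : orderOf r = n) (ha : a * a = 1) (hinv : a * r * a = r⁻¹) (hmem : a ∉ Subgroup.zpowers r)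
    (hcard : Nat.card H = 2 * n) : Nonempty (H ≃* DihedralGroup n) := by
  let ψ : ZMod n → H := fun i => r ^ i.val
  have hψ : ∀ i j, ψ (i + j) = ψ i * ψ j := fun i j => by
    show r ^ (i + j).val = r ^ i.val * r ^ j.val
    rw [ZMod.val_add, ← pow_add]
    exact pow_eq_pow_iff_modEq.2 (by rw [hr]; exact Nat.mod_modEq _ _)
  have hψ0 : ψ 0 = 1 := by simp [ψ]
  have hψn : ∀ i, ψ (-i) = (ψ i)⁻¹ := fun i => eq_inv_of_mul_eq_one_left (by rw [← hψ, neg_add_cancel, hψ0])
  have hψs : ∀ i j, ψ (i - j) = ψ i * (ψ j)⁻¹ := fun i j => by rw [sub_eq_add_neg, hψ, hψn]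
  have ha' : a⁻¹ = a := inv_eq_of_mul_eq_one_right ha
  have hca : ∀ m : ℕ, a * r ^ m * a = (r ^ m)⁻¹ := fun m => by
    rw [← inv_pow, ← hinv]
    conv_lhs => rw [show a * r ^ m * a = a * r ^ m * a⁻¹ by rw [ha']]
    conv_rhs => rw [show a * r * a = a * r * a⁻¹ by rw [ha']]
    exact (conj_pow).symm
  have hmove : ∀ i, ψ i * a = a * (ψ i)⁻¹ := fun i => by
    show r ^ i.val * a = a * (r ^ i.val)⁻¹
    rw [← hca, ← mul_assoc, ← mul_assoc, ha, one_mul]
  have hcom : ∀ i j, ψ i * ψ j = ψ j * ψ i := fun i j => by rw [← hψ, add_comm, hψ]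
  let F : DihedralGroup n → H := fun
    | .r i => ψ i
    | .sr i => a * ψ i
  let f : DihedralGroup n →* H :=
    { toFun := F
      map_one' := hψ0
      map_mul' := by
        rintro (i | i) (j | j)
        · rw [DihedralGroup.r_mul_r]; exact hψ i j
        · rw [DihedralGroup.r_mul_sr]
          show a * ψ (j - i) = ψ i * (a * ψ j)
          rw [← mul_assoc, hmove, hψs, mul_assoc a, ← hψn, hcom]
        · rw [DihedralGroup.sr_mul_r]
          show a * ψ (i + j) = a * ψ i * ψ j
          rw [hψ, mul_assoc]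
        · rw [DihedralGroup.sr_mul_sr]
          show ψ (j - i) = a * ψ i * (a * ψ j)
          rw [show a * ψ i * (a * ψ j) = a * (ψ i * a) * ψ j by group, hmove, ← mul_assoc a a, ha, one_mul, hψs,
            ← hψn, hcom] }
  have hinj : Function.Injective f := by
    rw [injective_iff_map_eq_one]
    rintro (i | i) h
    · have h' : r ^ i.val = 1 := h
      have hd := orderOf_dvd_of_pow_eq_one h'
      rw [hr] at hd
      have : i.val = 0 := Nat.eq_zero_of_dvd_of_lt hd (ZMod.val_lt i)
      rw [ZMod.val_eq_zero] at this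
      rw [this]; rfl
    · exfalso
      have h' : a * r ^ i.val = 1 := h
      apply hmem
      rw [eq_inv_of_mul_eq_one_left h']
      exact inv_mem (Subgroup.npow_mem_zpowers r _)
  have hb : Function.Bijective f := (Nat.bijective_iff_injective_and_card f).2 ⟨hinj, by rw [DihedralGroup.nat_card, hcard]⟩
  exact ⟨(MulEquiv.ofBijective f hb).symm⟩

/-- A homomorphism to a finite group with trivial kernel and equal orders. -/
theorem nonempty_mulEquiv_of_ker {H K : Type*} [Group H] [Group K] [Finite K] (f : H →* K) (hf : f.ker = ⊥)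
    (hcard : Nat.card H = Nat.card K) : Nonempty (H ≃* K) :=
  ⟨MulEquiv.ofBijective f ((Nat.bijective_iff_injective_and_card f).2 ⟨(MonoidHom.ker_eq_bot_iff f).1 hf, hcard⟩)⟩

variable [Finite G] {x : ℤ → G} {t : G} {k : ℕ}

/-- The standing hypotheses for a full segment. -/
structure Full (x : ℤ → G) (t : G) (k : ℕ) : Prop where
  chain : Chain x t k
  nonorm : NoNorm x k
  card : Nat.card (seg x 0 (k + 1)) = 2 ^ k * 3
  one_le : 1 ≤ k

theorem Full.left_le (_hF : Full x t k) : seg x 0 k ≤ seg x 0 (k + 1) := seg_mono le_rfl (by omega)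

theorem Full.right_le (_hF : Full x t k) : seg x 1 k ≤ seg x 0 (k + 1) := seg_mono (by omega) (by omega)

theorem Full.sup_eq (hF : Full x t k) : seg x 0 k ⊔ seg x 1 k = seg x 0 (k + 1) := by
  refine le_antisymm (sup_le hF.left_le hF.right_le) (seg_le fun j a b => ?_)
  by_cases hj : j < k
  · exact (le_sup_left : seg x 0 k ≤ _) (mem_seg a (by omega))
  · exact (le_sup_right : seg x 1 k ≤ seg x 0 k ⊔ seg x 1 k) (mem_seg (by have := hF.one_le; omega) (by omega))

/-- The two Sylow subgroups do not normalize each other. -/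
theorem Full.not_normalize (hF : Full x t k) : ¬ seg x 0 k ≤ normalizer (seg x 1 k : Set G) := by
  intro h
  have hp : IsPGroup 2 (seg x 0 k) := IsPGroup.of_card (hF.chain.card 0 k le_rfl)
  have hq : IsPGroup 2 (seg x 1 k) := IsPGroup.of_card (hF.chain.card 1 k le_rfl)
  have hs := hp.to_sup_of_normal_right' hq h
  rw [hF.sup_eq] at hs
  obtain ⟨j, hj⟩ := IsPGroup.iff_card.1 hs
  rw [hF.card] at hj
  have : 3 ∣ 2 ^ j := hj ▸ Dvd.intro_left _ rfl
  exact absurd (Nat.prime_three.dvd_of_dvd_pow this) (by norm_num)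

/-- A subgroup between a Sylow subgroup and the segment. -/
theorem Full.eq_of_le (hF : Full x t k) {i : ℤ} {L : Subgroup G} (hi : seg x i k ≤ L) (hL : L ≤ seg x 0 (k + 1)) :
    L = seg x i k ∨ L = seg x 0 (k + 1) := by
  obtain ⟨c, hc⟩ := Subgroup.card_dvd_of_le hi
  obtain ⟨d, hd⟩ := Subgroup.card_dvd_of_le hL
  rw [hF.chain.card i k le_rfl] at hc
  rw [hF.card, hc, mul_assoc] at hd
  have h := Nat.eq_of_mul_eq_mul_left (by positivity) hd
  rcases (Nat.dvd_prime Nat.prime_three).1 ⟨d, h⟩ with e | e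
  · refine Or.inl (Subgroup.eq_of_le_of_card_ge hi ?_).symm
    rw [hc, e, mul_one, hF.chain.card i k le_rfl]
  · refine Or.inr (Subgroup.eq_of_le_of_card_ge hL ?_)
    rw [hF.card, hc, e]

theorem Full.index_sylow (hF : Full x t k) : ((seg x 1 k).subgroupOf (seg x 0 (k + 1))).index = 3 := by
  have h := ((seg x 1 k).subgroupOf (seg x 0 (k + 1))).card_mul_index
  rw [Nat.card_congr (Subgroup.subgroupOfEquivOfLe hF.right_le).toEquiv, hF.chain.card 1 k le_rfl, hF.card] at h
  exact Nat.eq_of_mul_eq_mul_left (by positivity) h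

/-- A normal 2-subgroup lies in the middle segment. -/
theorem Full.le_middle (hF : Full x t k) {K : Subgroup G} (hK : K ≤ seg x 0 (k + 1))
    (hn : seg x 0 (k + 1) ≤ normalizer (K : Set G)) (hp : IsPGroup 2 K) : K ≤ seg x 1 (k - 1) := by
  have hle : ∀ i : ℤ, seg x i k ≤ seg x 0 (k + 1) → K ≤ seg x i k := by
    intro i hi
    have hs := hp.to_sup_of_normal_left' (IsPGroup.of_card (hF.chain.card i k le_rfl)) (hi.trans hn)
    rcases hF.eq_of_le (le_sup_right : seg x i k ≤ K ⊔ seg x i k) (sup_le hK hi) with h | h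
    · exact le_sup_left.trans h.le
    · exfalso
      rw [h] at hs
      obtain ⟨j, hj⟩ := IsPGroup.iff_card.1 hs
      rw [hF.card] at hj
      exact absurd (Nat.prime_three.dvd_of_dvd_pow (hj ▸ Dvd.intro_left _ rfl : 3 ∣ 2 ^ j)) (by norm_num)
  have hA := hle 0 hF.left_le
  have hB := hle 1 hF.right_le
  obtain ⟨m, hm⟩ : ∃ m, k = m + 1 := ⟨k - 1, by have := hF.one_le; omega⟩
  have hC : seg x 1 (k - 1) ≤ seg x 0 k ⊓ seg x 1 k := le_inf (seg_mono (by omega) (by omega)) (seg_mono le_rfl (by omega))
  refine (le_inf hA hB).trans (Subgroup.eq_of_le_of_card_ge hC ?_).ge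
  rw [hF.chain.card 1 (k - 1) (by omega)]
  obtain ⟨e, he1, he⟩ := (Nat.dvd_prime_pow Nat.prime_two).1
    ((hF.chain.card 0 k le_rfl) ▸ Subgroup.card_dvd_of_le (inf_le_left : seg x 0 k ⊓ seg x 1 k ≤ seg x 0 k))
  rw [he]
  refine Nat.pow_le_pow_right (by norm_num) ?_
  by_contra hlt
  have hek : e = k := by omega
  have e1 : seg x 0 k ⊓ seg x 1 k = seg x 0 k :=
    Subgroup.eq_of_le_of_card_ge inf_le_left (by rw [he, hek, hF.chain.card 0 k le_rfl])
  exact hF.not_normalize ((e1.ge.trans inf_le_right).trans Subgroup.le_normalizer)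

/-- An element commuting with every generator commutes with the whole segment. -/
theorem Full.not_central (hF : Full x t k) {l : ℕ} (hl : ¬ Commute (x 0) (x (l : ℤ))) {j : ℤ}
    (hcase : (0 ≤ j - l ∧ j - l ≤ k) ∨ (0 ≤ j + l ∧ j + l ≤ k))
    (h : ∀ z ∈ seg x 0 (k + 1), Commute (x j) z) : False := by
  apply hl
  rcases hcase with ⟨h1, h2⟩ | ⟨h1, h2⟩
  · have := (hF.chain.commute_shift 0 (l : ℤ) (j - l)).2
    rw [zero_add, add_sub_cancel] at this
    exact this (h _ (mem_seg h1 (by omega))).symm
  · have := (hF.chain.commute_shift 0 (l : ℤ) j).2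
    rw [zero_add, add_comm] at this
    exact this (h _ (mem_seg h1 (by omega)))

/-- Membership in a segment of length two. -/
theorem mem_seg_two (hC : Chain x t k) {l : ℕ} (hN : Near x l) (hl : 2 ≤ l) {i : ℤ} {z : G} (hz : z ∈ seg x i 2) :
    z = 1 ∨ z = x i ∨ z = x (i + 1) ∨ z = x i * x (i + 1) := by
  have hone : ∀ w ∈ seg x (i + 1) 1, w = 1 ∨ w = x (i + 1) := by
    intro w hw
    rcases hC.split hN (show 0 + 1 ≤ l by omega) hw with h | h <;> rw [seg_zero, Subgroup.mem_bot] at h
    · exact Or.inl h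
    · exact Or.inr ((eq_inv_of_mul_eq_one_right h).trans (hC.inv_eq _))
  rcases hC.split hN (show 1 + 1 ≤ l by omega) hz with h | h
  · rcases hone z h with e | e <;> simp [e]
  · have e : z = x i * (x i * z) := by rw [← mul_assoc, hC.sq, one_mul]
    rcases hone _ h with e' | e' <;> rw [e'] at e
    · exact Or.inr (Or.inl (by simpa using e))
    · exact Or.inr (Or.inr (Or.inr e))

theorem Full.iso_one (hF : Full x t 1) : Nonempty (seg x 0 (1 + 1) ≃* Equiv.Perm (Fin 3)) := by
  set H := seg x 0 (1 + 1)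
  set S := (seg x 1 1).subgroupOf H
  have hS : Nat.card (H ⧸ S) = 3 := hF.index_sylow
  let f : H →* Equiv.Perm (Fin 3) := (Finite.equivFinOfCardEq hS).permCongrHom.toMonoidHom.comp
    (MulAction.toPermHom H (H ⧸ S))
  refine nonempty_mulEquiv_of_ker f ?_ (by rw [hF.card, Nat.card_perm, Nat.card_fin]; rfl)
  rw [show f.ker = S.normalCore by rw [Subgroup.normalCore_eq_ker]; ext w; exact map_eq_one_iff _ (Finite.equivFinOfCardEq hS).permCongrHom.injective]
  have hle : (S.normalCore.map H.subtype) ≤ seg x 1 (1 - 1) := by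
    refine hF.le_middle (Subgroup.map_subtype_le _) ?_ ?_
    · exact (Subgroup.normal_subgroupOf_iff_le_normalizer (Subgroup.map_subtype_le _)).1
        (by rw [Subgroup.subgroupOf, Subgroup.comap_map_eq_self_of_injective H.subtype_injective]; infer_instance)
    · refine (((IsPGroup.of_card (hF.chain.card 1 1 le_rfl)).of_equiv
        (Subgroup.subgroupOfEquivOfLe hF.right_le).symm).to_le (Subgroup.normalCore_le _)).map _
  rw [show 1 - 1 = 0 from rfl, seg_zero, le_bot_iff, Subgroup.map_eq_bot_iff_of_injective _ H.subtype_injective] at hle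
  exact hle

theorem Full.iso_two (hF : Full x t 2) : Nonempty (seg x 0 (2 + 1) ≃* DihedralGroup 6) := by
  obtain ⟨l, h2, hlk, hN, hl, -, -⟩ := hF.chain.bounds hF.nonorm le_rfl
  obtain rfl : l = 2 := by omega
  set H := seg x 0 (2 + 1) with hH
  have hC := hF.chain
  have hc1 : ∀ z ∈ H, Commute (x 1) z := fun z hz => commute_seg (fun j a b => hN _ _ (by omega) (by omega)) hz
  set S := (seg x 1 2).subgroupOf H
  have hS : Nat.card (H ⧸ S) = 3 := hF.index_sylow
  let f : H →* Equiv.Perm (Fin 3) := (Finite.equivFinOfCardEq hS).permCongrHom.toMonoidHom.comp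
    (MulAction.toPermHom H (H ⧸ S))
  let a : H := ⟨x 0, mem_seg le_rfl (by norm_num)⟩
  let c : H := ⟨x 2, mem_seg (by norm_num) (by norm_num)⟩
  let z : H := ⟨x 1, mem_seg (by norm_num) (by norm_num)⟩
  have hzc : ∀ u : H, z * u = u * z := fun u => Subtype.ext (hc1 u u.2)
  have hker : ∀ u : H, f u = 1 → u = 1 ∨ u = z := by
    intro u hu
    have hK : (S.normalCore.map H.subtype) ≤ seg x 1 (2 - 1) := by
      refine hF.le_middle (Subgroup.map_subtype_le _) ?_ ?_
      · exact (Subgroup.normal_subgroupOf_iff_le_normalizer (Subgroup.map_subtype_le _)).1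
          (by rw [Subgroup.subgroupOf, Subgroup.comap_map_eq_self_of_injective H.subtype_injective]; infer_instance)
      · refine (((IsPGroup.of_card (hF.chain.card 1 2 le_rfl)).of_equiv
          (Subgroup.subgroupOfEquivOfLe hF.right_le).symm).to_le (Subgroup.normalCore_le _)).map _
    have hu' : u ∈ f.ker := hu
    rw [show f.ker = S.normalCore by rw [Subgroup.normalCore_eq_ker]; ext w; exact map_eq_one_iff _ (Finite.equivFinOfCardEq hS).permCongrHom.injective] at hu'
    have := hK ⟨u, hu', rfl⟩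
    rcases hC.split hN (show 0 + 1 ≤ 2 by norm_num) this with h | h <;> rw [seg_zero, Subgroup.mem_bot] at h
    · exact Or.inl (Subtype.ext h)
    · exact Or.inr (Subtype.ext ((eq_inv_of_mul_eq_one_right h).trans (hC.inv_eq _)))
  have ha : a * a = 1 := Subtype.ext (hC.sq 0)
  have hcc : c * c = 1 := Subtype.ext (hC.sq 2)
  have hzz : z * z = 1 := Subtype.ext (hC.sq 1)
  have hnc : ¬ Commute a c := fun h => hl (congrArg Subtype.val h.eq)
  set p := a * c with hp
  have hap : a * p * a = p⁻¹ := by
    rw [hp, mul_inv_rev, inv_eq_of_mul_eq_one_right hcc, inv_eq_of_mul_eq_one_right ha,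
      ← mul_assoc, ha, one_mul]
  have hperm : ∀ σ : Equiv.Perm (Fin 3), σ * σ = 1 ∨ σ * σ * σ = 1 := by decide
  have hp2 : f p * f p ≠ 1 := by
    intro h
    have hpp : f (p * p) = 1 := by rwa [map_mul]
    rcases hker _ hpp with e | e
    · apply hnc
      show a * c = c * a
      have e' : p⁻¹ = p := inv_eq_of_mul_eq_one_right e
      rw [hp, mul_inv_rev, inv_eq_of_mul_eq_one_right hcc, inv_eq_of_mul_eq_one_right ha] at e'
      exact e'.symm
    · -- the group generated by `a` and `c` would be the whole 2-group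
      have hfab : ∀ u v : H, Commute (f u) (f v) := by
        have hgen : ∀ u : H, f u ∈ Subgroup.closure ({f a, f c} : Set (Equiv.Perm (Fin 3))) := by
          intro u
          have : (u : G) ∈ H := u.2
          have hle : H ≤ ((Subgroup.closure ({f a, f c} : Set (Equiv.Perm (Fin 3)))).comap f).map H.subtype := by
            refine seg_le fun j p q => ?_
            rcases (show j = 0 ∨ j = 1 ∨ j = 2 by omega) with rfl | rfl | rfl
            · exact ⟨a, Subgroup.subset_closure (by simp), rfl⟩
            · refine ⟨z, ?_, rfl⟩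
              show f z ∈ Subgroup.closure ({f a, f c} : Set (Equiv.Perm (Fin 3)))
              rw [← e, hpp]
              exact Subgroup.one_mem _
            · exact ⟨c, Subgroup.subset_closure (by simp), rfl⟩
          obtain ⟨w, hw, hwu⟩ := hle this
          rwa [show w = u from Subtype.ext hwu] at hw
        have hfc : f a * f c = f c * f a := by
          have h1 : f p * f p = 1 := h
          rw [hp, map_mul] at h1
          have := inv_eq_of_mul_eq_one_right h1
          rw [mul_inv_rev] at this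
          rw [← this, ← map_inv, ← map_inv, inv_eq_of_mul_eq_one_right hcc, inv_eq_of_mul_eq_one_right ha]
        haveI := Subgroup.isMulCommutative_closure (k := ({f a, f c} : Set (Equiv.Perm (Fin 3)))) (by
          rintro u (rfl | rfl) v (rfl | rfl) <;> first | rfl | exact hfc | exact hfc.symm)
        intro u v
        exact congrArg Subtype.val (mul_comm' (⟨f u, hgen u⟩ : Subgroup.closure ({f a, f c} : Set (Equiv.Perm (Fin 3)))) ⟨f v, hgen v⟩)
      -- then the image is abelian of order six
      have hsurj : Function.Surjective f := by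
        rw [← MonoidHom.range_eq_top]
        refine Subgroup.eq_top_of_card_eq _ ?_
        have h1 := f.ker.card_mul_index
        rw [Subgroup.index_ker] at h1
        have h2 : Nat.card f.ker ≤ 2 := by
          have : (f.ker : Set H) ⊆ {1, z} := fun u hu => by rcases hker u hu with e | e <;> simp [e]
          calc Nat.card f.ker = (f.ker : Set H).ncard := (Nat.card_coe_set_eq _)
            _ ≤ ({1, z} : Set H).ncard := Set.ncard_le_ncard this
            _ ≤ 2 := (Set.ncard_insert_le _ _).trans (by simp)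
        have h3 : Nat.card f.range ≤ 6 := (Subgroup.card_le_card_group _).trans (by rw [Nat.card_perm, Nat.card_fin]; rfl)
        rw [hF.card] at h1
        rw [Nat.card_perm, Nat.card_fin]
        have : 0 < Nat.card f.ker := Nat.card_pos
        rw [show Nat.factorial 3 = 6 from rfl]
        interval_cases (Nat.card f.ker) <;> omega
      obtain ⟨u, hu⟩ := hsurj (Equiv.swap 0 1)
      obtain ⟨v, hv⟩ := hsurj (Equiv.swap 1 2)
      have := (hfab u v).eq
      rw [hu, hv] at this
      exact absurd this (by decide)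
  have hp3 : p * p * p = 1 ∨ p * p * p = z := hker _ (by
    rw [map_mul, map_mul]
    exact (hperm (f p)).resolve_left hp2)
  obtain ⟨r, hr, har, hr3⟩ : ∃ r : H, f r * f r ≠ 1 ∧ a * r * a = r⁻¹ ∧ r * r * r = z := by
    rcases hp3 with e | e
    · refine ⟨p * z, ?_, ?_, ?_⟩
      · rw [← map_mul, show p * z * (p * z) = p * (z * p) * z by group, hzc, show p * (p * z) * z = p * p * (z * z) by group,
          hzz, mul_one, map_mul]
        exact hp2
      · rw [mul_inv_rev, inv_eq_of_mul_eq_one_right hzz, ← hap, show a * (p * z) * a = a * p * (z * a) by group, hzc a]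
        rw [show a * p * (a * z) = a * p * a * z by group]
        exact (hzc _).symm
      · rw [show p * z * (p * z) * (p * z) = p * (z * p) * (z * p) * z by group, hzc,
          show p * (p * z) * (p * z) * z = p * p * (z * p) * (z * z) by group, hzc, hzz, mul_one,
          show p * p * (p * z) = p * p * p * z by group, e, one_mul]
    · exact ⟨p, hp2, hap, e⟩
  have hz1 : z ≠ 1 := fun e => hC.ne_one (by norm_num) 1 (congrArg Subtype.val e)
  have hord : orderOf r = 6 := by
    have h6 : r ^ 6 = 1 := by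
      rw [show r ^ 6 = (r * r * r) * (r * r * r) by simp [pow_succ, mul_assoc], hr3, hzz]
    have h2 : r ^ 2 ≠ 1 := fun e => hr (by rw [← map_mul, ← pow_two, e, map_one])
    have h3 : r ^ 3 ≠ 1 := fun e => hz1 (by rw [← hr3, ← e]; simp [pow_succ, mul_assoc])
    have hd := orderOf_dvd_of_pow_eq_one h6
    have hle := Nat.le_of_dvd (by norm_num) hd
    have hpow := pow_orderOf_eq_one r
    interval_cases h : orderOf r <;> first | rfl | omega | (exfalso; simp_all)
  refine nonempty_mulEquiv_dihedral a r hord ha har ?_ (by rw [hF.card]; rfl)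
  intro hmem
  obtain ⟨i, hi⟩ := hmem
  have hca : Commute a r := by rw [← hi]; exact (Commute.refl r).zpow_left i
  rw [hca.eq, mul_assoc, ha, mul_one] at har
  exact hr (by rw [← map_mul]; nth_rw 1 [har]; rw [inv_mul_cancel, map_one])

/-- For `k = 4` the first commutator is not the central involution. -/
theorem Full.ne_middle {x : ℤ → G} {t : G} (hF : Full x t 4) (hN : Near x (4 - 1))
    (hl : ¬ Commute (x 0) (x ((4 - 1 : ℕ) : ℤ))) : x 0 * x (3 : ℤ) * x 0 * x (3 : ℤ) ≠ x 2 := by
  intro h
  have hC := hF.chain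
  set H := seg x 0 (4 + 1) with hH
  -- `⟨x 2, x 3⟩` would be normal with centralizer `seg x 1 4`
  apply hF.not_normalize
  set V := seg x 2 2
  have hV : seg x 0 5 ≤ normalizer (V : Set G) := seg_le_normalizer hC fun u a b j a' b' => by
    by_cases hd : u - j < 3 ∧ j - u < 3
    · rw [(hN u j (by omega) (by omega)).eq, mul_assoc, hC.sq, mul_one]
      exact mem_seg (by omega) (by omega)
    · obtain ⟨rfl, rfl⟩ : u = 0 ∧ j = 3 := by omega
      have e : x 0 * x 3 * x 0 = x 2 * x 3 := by
        have h' : x 0 * x 3 * x 0 * x 3 = x 2 := h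
        calc x 0 * x 3 * x 0 = x 0 * x 3 * x 0 * x 3 * x 3 := by rw [mul_assoc _ (x 3) (x 3), hC.sq, mul_one]
          _ = x 2 * x 3 := by rw [h']
      rw [e]
      exact Subgroup.mul_mem _ (mem_seg le_rfl (by norm_num)) (mem_seg (by norm_num) (by norm_num))
  set C := H ⊓ centralizer (V : Set G) with hCd
  have hSC : seg x 1 4 ≤ C := seg_le fun u a b => ⟨mem_seg (by omega) (by omega), Subgroup.mem_centralizer_iff.2
    fun v hv => (commute_seg (g := x u) (fun j a' b' => hN _ _ (by omega) (by omega)) hv).eq.symm⟩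
  have hne : C ≠ H := by
    intro e
    have h0 : x 0 ∈ C := e.symm ▸ mem_seg le_rfl (by norm_num)
    refine hl ?_
    exact (Subgroup.mem_centralizer_iff.1 h0.2 (x 3) (mem_seg (by norm_num) (by norm_num))).symm
  have hC4 : C = seg x 1 4 := (hF.eq_of_le hSC inf_le_left).resolve_right hne
  rw [← hC4]
  refine (hF.left_le).trans fun g hg => Subgroup.mem_normalizer_iff.2 fun w => ?_
  refine and_congr ((Subgroup.mem_normalizer_iff.1 (Subgroup.le_normalizer hg)) w) ?_
  have hn := Subgroup.mem_normalizer_iff.1 (hV hg)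
  simp only [Subgroup.mem_centralizer_iff, SetLike.mem_coe]
  constructor
  · intro hw v hv
    have hv' : g⁻¹ * v * g ∈ V := by
      rw [hn]; simpa [mul_assoc] using hv
    calc v * (g * w * g⁻¹) = g * ((g⁻¹ * v * g) * w) * g⁻¹ := by group
      _ = g * (w * (g⁻¹ * v * g)) * g⁻¹ := by rw [hw _ hv']
      _ = g * w * g⁻¹ * v := by group
  · intro hw v hv
    have h' := hw _ ((hn v).1 hv)
    have h'' : g * (v * w) * g⁻¹ = g * (w * v) * g⁻¹ := by
      calc g * (v * w) * g⁻¹ = g * v * g⁻¹ * (g * w * g⁻¹) := by group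
        _ = g * w * g⁻¹ * (g * v * g⁻¹) := h'
        _ = g * (w * v) * g⁻¹ := by group
    exact mul_left_cancel (mul_right_cancel h'')

set_option maxHeartbeats 1200000 in
/-- For three and four: the action on the four Sylow 3-subgroups. -/
theorem Full.sylow_action (hF : Full x t k) (hk : k = 3 ∨ k = 4) :
    ∃ (l : ℕ) (f : seg x 0 (k + 1) →* Equiv.Perm (Fin 4)), l = k - 1 ∧ Near x l ∧ ¬ Commute (x 0) (x (l : ℤ)) ∧
      ((k = 3 ∧ f.ker = ⊥) ∨ (k = 4 ∧ ∀ u, f u = 1 → (u : G) = 1 ∨ (u : G) = x 2)) := by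
  obtain ⟨l, h2, hlk, hN, hl, hu, hlo⟩ := hF.chain.bounds hF.nonorm (by omega)
  obtain rfl : l = k - 1 := by omega
  have hC := hF.chain
  set H := seg x 0 (k + 1) with hH
  haveI : Fact (Nat.Prime 3) := ⟨Nat.prime_three⟩
  let P : Sylow 3 H := default
  have hPc : Nat.card P = 3 := by
    rw [Sylow.card_eq_multiplicity, hF.card]
    rcases hk with rfl | rfl
    · rw [show 2 ^ 3 * 3 = 8 * 3 from rfl, Nat.factorization_mul (by norm_num) (by norm_num)]
      simp [Nat.prime_three.factorization_self, Nat.factorization_eq_zero_of_not_dvd (show ¬ 3 ∣ 8 by norm_num)]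
    · rw [show 2 ^ 4 * 3 = 16 * 3 from rfl, Nat.factorization_mul (by norm_num) (by norm_num)]
      simp [Nat.prime_three.factorization_self, Nat.factorization_eq_zero_of_not_dvd (show ¬ 3 ∣ 16 by norm_num)]
  -- `y`, the first commutator, is one of three elements
  set y := x 0 * x ((k - 1 : ℕ) : ℤ) * x 0 * x ((k - 1 : ℕ) : ℤ) with hy
  have hyseg : y ∈ seg x 1 (k - 2) := by
    have := hC.commutator_mem (i := 0) (n := k - 2) (by omega)
    rwa [show (0 : ℤ) + (k - 2 : ℕ) + 1 = ((k - 1 : ℕ) : ℤ) by omega, zero_add] at this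
  have hy1 : y ≠ 1 := fun he => hl (show x 0 * x ((k - 1 : ℕ) : ℤ) = x ((k - 1 : ℕ) : ℤ) * x 0 by
    calc x 0 * x ((k - 1 : ℕ) : ℤ) = y * (x ((k - 1 : ℕ) : ℤ))⁻¹ * (x 0)⁻¹ := by rw [hy]; group
      _ = x ((k - 1 : ℕ) : ℤ) * x 0 := by rw [he, one_mul, hC.inv_eq, hC.inv_eq])
  have hycase : y = x 1 ∨ (k = 4 ∧ y = x 1 * x 2) := by
    rcases hk with rfl | rfl
    · rcases hC.split hN (show 0 + 1 ≤ 3 - 1 by norm_num) (i := 1) hyseg with h | h <;> rw [seg_zero, Subgroup.mem_bot] at h
      · exact absurd h hy1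
      · exact Or.inl ((eq_inv_of_mul_eq_one_right h).trans (hC.inv_eq _))
    · rcases mem_seg_two hC hN (by norm_num) hyseg with h | h | h | h
      · exact absurd h hy1
      · exact Or.inl h
      · exfalso
        norm_num at h
        exact hF.ne_middle hN hl h
      · exact Or.inr ⟨rfl, by simpa using h⟩
  -- `x 1` does not centralize a Sylow 3-subgroup
  have hx1P : ∀ v ∈ (P : Subgroup H), Commute (x 1) (v : G) → v = 1 := by
    intro v hv hcm
    by_contra hv1
    set C := H ⊓ centralizer ({x 1} : Set G) with hCd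
    have hS : seg x 0 k ≤ C := seg_le fun u a b => ⟨mem_seg a (by omega),
      Subgroup.mem_centralizer_singleton_iff.2 (hN u 1 (by omega) (by omega)).eq⟩
    have hvC : (v : G) ∈ C := ⟨v.2, Subgroup.mem_centralizer_singleton_iff.2 hcm.eq.symm⟩
    have hne : C ≠ seg x 0 k := by
      intro e
      rw [e] at hvC
      have hd := Subgroup.orderOf_dvd_natCard _ hvC
      rw [hC.card 0 k le_rfl] at hd
      have h3 : orderOf (v : G) = 3 := by
        rw [Subgroup.orderOf_coe]
        have hd3 : orderOf v ∣ 3 := hPc ▸ Subgroup.orderOf_dvd_natCard _ hv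
        rcases (Nat.dvd_prime Nat.prime_three).1 hd3 with e | e
        · exact absurd (orderOf_eq_one_iff.1 e) hv1
        · exact e
      rw [h3] at hd
      exact absurd (Nat.prime_three.dvd_of_dvd_pow hd) (by norm_num)
    have hCH := (hF.eq_of_le hS inf_le_left).resolve_left hne
    refine hF.not_central hl (j := 1) (Or.inr ⟨by omega, by omega⟩) fun z hz => ?_
    have : z ∈ C := hCH.ge hz
    exact (Subgroup.mem_centralizer_singleton_iff.1 this.2).symm
  have hk2 : k = 4 → ∀ z ∈ H, Commute (x 2) z := by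
    rintro rfl z hz
    exact commute_seg (fun j a b => hN _ _ (by omega) (by omega)) hz
  have hyP : ∀ v ∈ (P : Subgroup H), Commute y (v : G) → v = 1 := by
    intro v hv hcm
    rcases hycase with e | ⟨hk4, e⟩
    · exact hx1P v hv (e ▸ hcm)
    · refine hx1P v hv ?_
      have := hcm.mul_left ((hk2 hk4 v v.2))
      rwa [e, mul_assoc, hC.sq, mul_one] at this
  -- number of Sylow subgroups
  have hn : Nat.card (Sylow 3 H) = 4 := by
    have hdvd : Nat.card (Sylow 3 H) ∣ 2 ^ k := by
      have h := P.card_dvd_index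
      have h' := (P : Subgroup H).card_mul_index
      rw [show Nat.card (P : Subgroup H) = 3 from hPc, hF.card, mul_comm (2 ^ k)] at h'
      rwa [Nat.eq_of_mul_eq_mul_left (by norm_num) h'] at h
    have hmod : Nat.card (Sylow 3 H) % 3 = 1 := card_sylow_modEq_one 3 H
    obtain ⟨e, he, hce⟩ := (Nat.dvd_prime_pow Nat.prime_two).1 hdvd
    have h1 : e ≠ 0 := by
      rintro rfl
      haveI : Subsingleton (Sylow 3 H) := (Nat.card_eq_one_iff_unique.1 (by simpa using hce)).1
      have hnorm : (P : Subgroup H).Normal := Sylow.normal_of_subsingleton P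
      obtain ⟨v, hv, hv1⟩ := (Subgroup.bot_or_exists_ne_one (P : Subgroup H)).resolve_left fun e => by
        have h31 : Nat.card (P : Subgroup H) = 1 := by rw [e, Subgroup.card_bot]
        exact absurd (hPc.symm.trans h31) (by norm_num)
      refine hv1 (hyP v hv ?_)
      -- conjugations restricted to `P` commute
      haveI : IsCyclic (P : Subgroup H) := isCyclic_of_prime_card (p := 3) hPc
      have hy' : ∀ a b : H, (a * b * a⁻¹ * b⁻¹) * v * (a * b * a⁻¹ * b⁻¹)⁻¹ = v := by
        intro a b
        have hz : ∀ g : H, ∀ u ∈ (P : Subgroup H), ∃ m : ℤ, g * u * g⁻¹ = u ^ m ∧ ∀ u' ∈ (P : Subgroup H), g * u' * g⁻¹ = u' ^ m := by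
          intro g u hu
          obtain ⟨w, hw⟩ := IsCyclic.exists_generator (α := (P : Subgroup H))
          obtain ⟨m, hm⟩ := hw ⟨g * w * g⁻¹, hnorm.conj_mem w w.2 g⟩
          have hm' : (w : H) ^ m = g * w * g⁻¹ := (Subgroup.coe_zpow _ _ _).symm.trans (congrArg Subtype.val hm)
          have key : ∀ u' ∈ (P : Subgroup H), g * u' * g⁻¹ = u' ^ m := by
            intro u' hu'
            obtain ⟨j, hj⟩ := hw ⟨u', hu'⟩
            have hj' : (w : H) ^ j = u' := (Subgroup.coe_zpow _ _ _).symm.trans (congrArg Subtype.val hj)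
            rw [← hj', ← conj_zpow, ← hm', ← zpow_mul, ← zpow_mul, mul_comm]
          exact ⟨m, key u hu, key⟩
        obtain ⟨m, -, hm⟩ := hz a v hv
        obtain ⟨n, -, hn⟩ := hz b v hv
        have e1 : ∀ u ∈ (P : Subgroup H), a * (b * u * b⁻¹) * a⁻¹ = b * (a * u * a⁻¹) * b⁻¹ := by
          intro u hu
          rw [hm _ (hnorm.conj_mem u hu b), hn u hu, hm u hu, hn _ (zpow_mem hu m), ← zpow_mul, ← zpow_mul, mul_comm]
        have hu : a⁻¹ * b⁻¹ * v * b * a ∈ (P : Subgroup H) := by
          have := hnorm.conj_mem _ (hnorm.conj_mem v hv b⁻¹) a⁻¹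
          simpa [mul_assoc] using this
        have := e1 _ hu
        calc (a * b * a⁻¹ * b⁻¹) * v * (a * b * a⁻¹ * b⁻¹)⁻¹
            = a * (b * (a⁻¹ * b⁻¹ * v * b * a) * b⁻¹) * a⁻¹ := by group
          _ = b * (a * (a⁻¹ * b⁻¹ * v * b * a) * a⁻¹) * b⁻¹ := this
          _ = v := by group
      have := congrArg Subtype.val (hy' ⟨x 0, mem_seg le_rfl (by omega)⟩ ⟨x ((k - 1 : ℕ) : ℤ), mem_seg (by omega) (by omega)⟩)
      simp only [Subgroup.coe_mul, Subgroup.coe_inv, hC.inv_eq] at this
      show y * (v : G) = (v : G) * y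
      rw [← hy] at this
      calc y * (v : G) = y * (v : G) * y⁻¹ * y := by group
        _ = (v : G) * y := by rw [this]
    have h4 : e ≠ 4 := by
      rintro rfl
      have hk4 : k = 4 := by omega
      have h := P.card_eq_index_normalizer
      have h' := (normalizer (P : Set H)).card_mul_index
      rw [← h, hce, hF.card, hk4, mul_comm (2 ^ 4)] at h'
      have hc := Nat.eq_of_mul_eq_mul_right (by norm_num) h'
      have hz : (⟨x 2, mem_seg (by omega) (by omega)⟩ : H) ∈ normalizer (P : Set H) := by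
        show (_ : H) ∈ normalizer (((P : Subgroup H)) : Set H)
        rw [Subgroup.mem_normalizer_iff]
        intro w
        rw [show (⟨x 2, mem_seg (by omega) (by omega)⟩ : H) * w * (⟨x 2, mem_seg (by omega) (by omega)⟩ : H)⁻¹ = w from
          Subtype.ext (by simp only [Subgroup.coe_mul, Subgroup.coe_inv]; rw [(hk2 hk4 w w.2).eq, mul_inv_cancel_right])]
      have hd := Subgroup.orderOf_dvd_natCard _ hz
      rw [hc, ← Subgroup.orderOf_coe, orderOf_eq_prime (p := 2) (by rw [pow_two, hC.sq]) (hC.ne_one hF.one_le 2)] at hd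
      norm_num at hd
    have : e ≤ 4 := by omega
    interval_cases e <;> simp_all
  let f : H →* Equiv.Perm (Fin 4) := (Finite.equivFinOfCardEq hn).permCongrHom.toMonoidHom.comp
    (MulAction.toPermHom H (Sylow 3 H))
  have hfk : f.ker = (MulAction.toPermHom H (Sylow 3 H)).ker := by
    ext w; exact map_eq_one_iff _ (Finite.equivFinOfCardEq hn).permCongrHom.injective
  set K := f.ker.map H.subtype with hK
  have hKP : ∀ u ∈ f.ker, u ∈ normalizer (P : Set H) := by
    intro u hu
    rw [hfk] at hu
    have h := congrArg (fun π : Equiv.Perm (Sylow 3 H) => π P) hu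
    simp only [MulAction.toPermHom_apply, MulAction.toPerm_apply, Equiv.Perm.one_apply] at h
    exact Sylow.smul_eq_iff_mem_normalizer.1 h
  have hdisj : f.ker ⊓ (P : Subgroup H) = ⊥ := by
    by_contra hne
    have hP : (P : Subgroup H) ≤ f.ker := by
      have hd := Subgroup.card_dvd_of_le (inf_le_right : f.ker ⊓ (P : Subgroup H) ≤ P)
      rw [show Nat.card (P : Subgroup H) = 3 from hPc] at hd
      rcases (Nat.dvd_prime Nat.prime_three).1 hd with e | e
      · exact absurd (Subgroup.eq_bot_of_card_eq _ e) hne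
      · have := Subgroup.eq_of_le_of_card_ge (inf_le_right : f.ker ⊓ (P : Subgroup H) ≤ P) (by rw [e]; exact hPc.le)
        exact inf_eq_right.1 this
    -- every Sylow subgroup lies in the kernel, which normalizes all of them
    have hall : ∀ Q : Sylow 3 H, (Q : Subgroup H) ≤ normalizer (P : Set H) := by
      intro Q w hw
      obtain ⟨g, rfl⟩ := MulAction.exists_smul_eq H P Q
      refine hKP w ?_
      obtain ⟨v, hv, rfl⟩ := hw
      exact (inferInstance : f.ker.Normal).conj_mem v (hP hv) g
    haveI : Subsingleton (Sylow 3 H) := ⟨fun Q Q' => by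
      have key : ∀ R : Sylow 3 H, R = P := fun R => by
        have hsup := R.isPGroup'.to_sup_of_normal_right' P.isPGroup' (hall R)
        have hRP : (R : Subgroup H) ≤ P := le_sup_left.trans (P.is_maximal' hsup le_sup_right).le
        exact (Sylow.ext (R.is_maximal' P.isPGroup' hRP)).symm
      rw [key Q, key Q']⟩
    have := Nat.card_of_subsingleton P
    rw [hn] at this; omega
  have hKcomm : ∀ u ∈ f.ker, ∀ v ∈ (P : Subgroup H), u * v = v * u := by
    intro u hu v hv
    have h1 : u * v * u⁻¹ * v⁻¹ ∈ (f.ker ⊓ (P : Subgroup H) : Subgroup H) := by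
      refine ⟨?_, Subgroup.mul_mem _ ((Subgroup.mem_normalizer_iff.1 (hKP u hu) v).1 hv) (Subgroup.inv_mem _ hv)⟩
      rw [show u * v * u⁻¹ * v⁻¹ = u * (v * u⁻¹ * v⁻¹) by group]
      exact Subgroup.mul_mem _ hu ((inferInstance : f.ker.Normal).conj_mem _ (Subgroup.inv_mem _ hu) v)
    rw [hdisj, Subgroup.mem_bot, mul_inv_eq_one, mul_inv_eq_iff_eq_mul] at h1
    exact h1
  have hK2 : IsPGroup 2 f.ker := by
    intro u
    obtain ⟨e, he⟩ : ∃ e, orderOf u ∣ 2 ^ e := by
      refine ⟨k, ?_⟩
      have h3 : ¬ 3 ∣ Nat.card f.ker := by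
        intro h3
        obtain ⟨w, hw⟩ := exists_prime_orderOf_dvd_card' 3 h3
        have hwp : IsPGroup 3 (Subgroup.zpowers (w : H)) := IsPGroup.of_card (n := 1) (by
          rw [Nat.card_zpowers, pow_one, Subgroup.orderOf_coe, hw])
        obtain ⟨Q, hQ⟩ := hwp.exists_le_sylow
        obtain ⟨g, rfl⟩ := MulAction.exists_smul_eq H P Q
        obtain ⟨v, hv, hvw⟩ := hQ (Subgroup.mem_zpowers (w : H))
        have hvk : v ∈ f.ker := by
          have e : v = g⁻¹ * (w : H) * g⁻¹⁻¹ := by
            rw [← hvw]; simp [MulDistribMulAction.toMonoidEnd_apply, mul_assoc]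
          rw [e]
          exact (inferInstance : f.ker.Normal).conj_mem _ w.2 _
        have hmem : v ∈ f.ker ⊓ (P : Subgroup H) := ⟨hvk, hv⟩
        rw [hdisj, Subgroup.mem_bot] at hmem
        have hvw' : g * v * g⁻¹ = (w : H) := hvw
        rw [hmem, mul_one, mul_inv_cancel] at hvw'
        rw [← Subgroup.orderOf_coe, ← hvw', orderOf_one] at hw
        omega
      have hd := (orderOf_dvd_natCard u).trans (dvd_refl (Nat.card f.ker))
      refine hd.trans ((Nat.Coprime.dvd_of_dvd_mul_right (k := Nat.card f.ker) (n := 3) ?_) (hF.card ▸ Subgroup.card_subgroup_dvd_card f.ker))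
      exact ((Nat.prime_three.coprime_iff_not_dvd).2 h3).symm
    obtain ⟨e', -, he'⟩ := (Nat.dvd_prime_pow Nat.prime_two).1 he
    exact ⟨e', by rw [← he', pow_orderOf_eq_one]⟩
  have hKle : K ≤ seg x 1 (k - 1) := hF.le_middle (Subgroup.map_subtype_le _)
    ((Subgroup.normal_subgroupOf_iff_le_normalizer (Subgroup.map_subtype_le _)).1
      (by rw [Subgroup.subgroupOf, Subgroup.comap_map_eq_self_of_injective H.subtype_injective]; infer_instance))
    (hK2.map _)
  have hx0H : x 0 ∈ H := mem_seg le_rfl (by omega)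
  have hkn : f.ker.Normal := inferInstance
  have hKn : ∀ z ∈ K, x 0 * z * x 0 ∈ K := by
    intro z hz
    obtain ⟨u, hu, rfl⟩ := Subgroup.mem_map.1 hz
    have h1 := hkn.conj_mem u hu (⟨x 0, hx0H⟩ : H)
    refine Subgroup.mem_map.2 ⟨_, h1, ?_⟩
    show x 0 * (u : G) * (x 0)⁻¹ = x 0 * (u : G) * x 0
    rw [hC.inv_eq]
  have hnot : x 1 ∉ K ∧ y ∉ K := by
    obtain ⟨v, hv, hv1⟩ := (Subgroup.bot_or_exists_ne_one (P : Subgroup H)).resolve_left fun e => by
      have h31 : Nat.card (P : Subgroup H) = 1 := by rw [e, Subgroup.card_bot]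
      exact absurd (hPc.symm.trans h31) (by norm_num)
    constructor
    · rintro ⟨u, hu, hu'⟩
      refine hv1 (hx1P v hv ?_)
      have := congrArg Subtype.val (hKcomm u hu v hv)
      simp only [Subgroup.coe_mul] at this
      show x 1 * (v : G) = (v : G) * x 1
      rw [← hu']; exact this
    · rintro ⟨u, hu, hu'⟩
      refine hv1 (hyP v hv ?_)
      have := congrArg Subtype.val (hKcomm u hu v hv)
      simp only [Subgroup.coe_mul] at this
      show y * (v : G) = (v : G) * y
      rw [← hu']; exact this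
  refine ⟨k - 1, f, rfl, hN, hl, ?_⟩
  rcases hk with rfl | rfl
  · refine Or.inl ⟨rfl, eq_bot_iff.2 fun u hu => ?_⟩
    have hz : (u : G) ∈ K := ⟨u, hu, rfl⟩
    rw [Subgroup.mem_bot]
    refine Subtype.ext ?_
    have hy' : y = x 1 := hycase.resolve_right (fun h => absurd h.1 (by norm_num))
    rcases mem_seg_two hC hN le_rfl (hKle hz) with h | h | h | h
    · exact h
    · exact absurd (h ▸ hz) hnot.1
    all_goals
      exfalso
      norm_num at h
      have h2 := Subgroup.mul_mem _ (hKn _ hz) hz
      rw [h] at h2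
      apply hnot.2
      norm_num at hy
      rw [hy]
      convert h2 using 1
    all_goals
      have e01 : x 0 * x 1 = x 1 * x 0 := hN 0 1 (by norm_num) (by norm_num)
      have e12 : x 1 * x 2 = x 2 * x 1 := hN 1 2 (by norm_num) (by norm_num)
      calc x 0 * x 2 * x 0 * x 2 = x 0 * x 2 * x 0 * (x 1 * x 1) * x 2 := by rw [hC.sq, mul_one]
        _ = x 0 * x 2 * (x 1 * x 0) * x 1 * x 2 := by rw [← e01]; group
        _ = x 0 * (x 1 * x 2) * x 0 * (x 1 * x 2) := by rw [show x 0 * (x 1 * x 2) * x 0 = x 0 * (x 2 * x 1) * x 0 by rw [e12]]; group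
  · refine Or.inr ⟨rfl, fun u hu => ?_⟩
    have hz : (u : G) ∈ K := ⟨u, hu, rfl⟩
    have h2K : x 2 ∈ K := by
      refine ⟨⟨x 2, mem_seg (by norm_num) (by norm_num)⟩, ?_, rfl⟩
      show _ ∈ f.ker
      rw [hfk, MonoidHom.mem_ker]
      ext Q : 1
      rw [MulAction.toPermHom_apply, MulAction.toPerm_apply, Equiv.Perm.one_apply, Sylow.smul_eq_iff_mem_normalizer]
      show (_ : H) ∈ normalizer ((Q : Subgroup H) : Set H)
      rw [Subgroup.mem_normalizer_iff]
      intro w
      rw [show (⟨x 2, mem_seg (by norm_num) (by norm_num)⟩ : H) * w *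
        (⟨x 2, mem_seg (by norm_num) (by norm_num)⟩ : H)⁻¹ = w from
        Subtype.ext (by simp only [Subgroup.coe_mul, Subgroup.coe_inv]; rw [(hk2 rfl w w.2).eq, mul_inv_cancel_right])]
    have hc3 : ∀ z ∈ seg x 2 1, z = 1 ∨ z = x 2 := by
      intro z hz'
      rcases hC.split hN (show 0 + 1 ≤ 4 - 1 by norm_num) hz' with h | h <;> rw [seg_zero, Subgroup.mem_bot] at h
      · exact Or.inl h
      · exact Or.inr ((eq_inv_of_mul_eq_one_right h).trans (hC.inv_eq _))
    -- `z` commutes with `x 0`
    have hz0 : Commute (x 0) (u : G) := by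
      show x 0 * (u : G) = (u : G) * x 0
      have hz3 : x 0 * (u : G) * x 0 * (u : G)⁻¹ ∈ K := Subgroup.mul_mem _ (hKn _ hz) (Subgroup.inv_mem _ hz)
      have hsub : x 0 * (u : G) * x 0 * (u : G)⁻¹ ∈ ({1, y} : Set G) := by
        have hw : (u : G) ∈ seg x 1 3 := hKle hz
        have hsp : (u : G) ∈ seg x 1 2 ∨ (u : G) * x 3 ∈ seg x 1 2 := by
          have hCr := hC.rev (4 : ℤ)
          have hNr : Near (fun j => x ((4 : ℤ) - j)) (4 - 1) := fun i j p q => hN _ _ (by omega) (by omega)
          have hw' : (u : G) ∈ seg (fun j => x ((4 : ℤ) - j)) 1 3 := by rw [seg_rev]; norm_num; exact hw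
          have := hCr.split hNr (show 2 + 1 ≤ 4 - 1 by norm_num) hw'
          rw [seg_rev] at this
          norm_num at this
          refine this.imp id fun h => ?_
          rwa [(seg_commute hN le_rfl (i := 1) (n := 4 - 1) hw (mem_seg (by norm_num) (by norm_num))).eq]
        rcases hsp with h | h
        · left
          have hc : Commute (x 0) (u : G) := commute_seg (fun j a b => hN _ _ (by omega) (by omega)) h
          rw [hc.eq, mul_assoc (u : G), hC.sq, mul_one, mul_inv_cancel]
        · right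
          have hc : Commute (x 0) ((u : G) * x 3) := commute_seg (fun j a b => hN _ _ (by omega) (by omega)) h
          set w := (u : G) * x 3 with hwd
          have hu' : (u : G) = w * x 3 := by rw [hwd, mul_assoc, hC.sq, mul_one]
          have hw3 : w ∈ seg x 1 3 := seg_mono le_rfl (by norm_num) h
          have hys : y ∈ seg x 1 3 := seg_mono le_rfl (by norm_num) hyseg
          show _ = y
          rw [hu', mul_inv_rev, hC.inv_eq]
          calc x 0 * (w * x 3) * x 0 * (x 3 * w⁻¹) = x 0 * w * (x 3 * x 0 * x 3) * w⁻¹ := by group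
            _ = w * (x 0 * x 3 * x 0 * x 3) * w⁻¹ := by rw [hc.eq]; group
            _ = w * y * w⁻¹ := by rw [hy]; norm_num
            _ = y := by rw [(seg_commute hN le_rfl hw3 hys).eq, mul_inv_cancel_right]
      rcases hsub with h | h
      · calc x 0 * (u : G) = x 0 * (u : G) * x 0 * (u : G)⁻¹ * (u : G) * (x 0)⁻¹ := by group
          _ = (u : G) * x 0 := by rw [h, one_mul, hC.inv_eq]
      · exact absurd (h ▸ hz3) hnot.2
    -- hence `z` has no `x 3` part
    have hw : (u : G) ∈ seg x 1 3 := hKle hz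
    rcases hC.split hN (show 2 + 1 ≤ 4 - 1 by norm_num) hw with h | h
    · rcases mem_seg_two hC hN (by norm_num) h with e | e | e | e
      · exact Or.inl e
      · exact Or.inr e
      all_goals
        exfalso
        norm_num at e
        apply hl
        norm_num
      · exact e ▸ hz0
      · have := hz0.mul_right (hN 0 2 (by norm_num) (by norm_num))
        have e' : (u : G) * x 2 = x 3 := by
          rw [e, mul_assoc, (hN 3 2 (by norm_num) (by norm_num)).eq, ← mul_assoc, hC.sq, one_mul]
        rwa [e'] at this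
    · have hx0 : Commute (x 0) (x 1 * (u : G)) := (hN 0 1 (by norm_num) (by norm_num)).mul_right hz0
      rcases mem_seg_two hC hN (by norm_num) h with e | e | e | e <;> norm_num at e
      · exact absurd (by rwa [(eq_inv_of_mul_eq_one_right e).trans (hC.inv_eq _)] at hz) hnot.1
      · exfalso
        apply hnot.1
        have := Subgroup.mul_mem _ h2K (Subgroup.inv_mem _ hz)
        rwa [← e, show x 1 * (u : G) * (u : G)⁻¹ = x 1 by group] at this
      all_goals
        exfalso
        apply hl
        norm_num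
      · exact e ▸ hx0
      · rw [e] at hx0
        have := (hN 0 2 (by norm_num) (by norm_num)).mul_right hx0
        rwa [← mul_assoc, hC.sq, one_mul] at this

end Cfsg.Agent.PermGroups.CubicSuborbit
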