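import Cfsg.Agent.PermGroups.CubicSuborbit.Setup
import Cfsg.Agent.PermGroups.CubicSuborbit.Shapes

/-!
Sims's theorem and the five stabilizers of a suborbit of length three.
-/

set_option autoImplicit false

open Subgroup

namespace Cfsg.Agent.PermGroups.CubicSuborbit

variable {G Ω : Type*} [Group G] [Finite G] [MulAction G Ω] [FaithfulSMul G Ω] [Finite Ω] {a b : Ω}

/-- The two-point stabilizer is a 2-group. -/
theorem isPGroup_inf (hprim : MulAction.IsPreprimitive G Ω)
    (hd : Nat.card (MulAction.orbit (MulAction.stabilizer G a) b) = 3) :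
    IsPGroup 2 ↥(MulAction.stabilizer G a ⊓ MulAction.stabilizer G b) := by
  set M := MulAction.stabilizer G a with hM
  set N := MulAction.stabilizer G b with hN
  set B := M ⊓ N with hB
  have hcard : Nat.card N = Nat.card M := SuborbitKernels.card_eq hprim
  have hMd : B.relIndex M = 3 := SuborbitKernels.relIndex_left hd
  have key : ∀ L : Subgroup G, B ≤ L → Nat.card B * B.relIndex L = Nat.card L := fun L hL => by
    rw [← Nat.card_congr (Subgroup.subgroupOfEquivOfLe hL).toEquiv, Subgroup.relIndex, Subgroup.card_mul_index]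
  have hcM : Nat.card M = Nat.card B * 3 := by rw [← key M inf_le_left, hMd]
  have hd' : Nat.card (MulAction.orbit (MulAction.stabilizer G b) a) = 3 := by
    rw [Nat.card_congr (MulAction.orbitEquivQuotientStabilizer (MulAction.stabilizer G b) a)]
    show ((M.subgroupOf N)).index = 3
    rw [← Subgroup.relIndex, ← Subgroup.inf_relIndex_left, inf_comm]
    refine Nat.eq_of_mul_eq_mul_left (Nat.card_pos (α := B)) ?_
    rw [key N inf_le_right, hcard, hcM]
  have h48 : Nat.factorial 3 * Nat.factorial (3 - 1) ^ 3 = 2 ^ 4 * 3 := by rfl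
  -- a bound makes `B` a 2-group
  have fin : ∀ L : Subgroup G, B ≤ L → Nat.card L = Nat.card M → ∀ A : Subgroup G, A ≤ B →
      A.relIndex L ∣ Nat.factorial 3 * Nat.factorial (3 - 1) ^ 3 → A.relIndex B ∣ 2 ^ 4 := by
    intro L hL hLc A hA h
    have h3 : B.relIndex L = 3 := by
      refine Nat.eq_of_mul_eq_mul_left (Nat.card_pos (α := B)) ?_
      rw [key L hL, hLc, hcM]
    rw [h48, ← Subgroup.relIndex_mul_relIndex A B L hA hL, h3] at h
    exact Nat.dvd_of_mul_dvd_mul_right (by norm_num) h
  have small : ∀ L : Subgroup G, B ≤ L → Nat.card L = Nat.card M →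
      Nat.card L ∣ Nat.factorial 3 * Nat.factorial (3 - 1) ^ 3 → IsPGroup 2 B := by
    intro L hL hLc h
    rw [← Subgroup.relIndex_bot_left] at h
    have h' := fin L hL hLc ⊥ bot_le h
    rw [Subgroup.relIndex_bot_left] at h'
    obtain ⟨e, -, he⟩ := (Nat.dvd_prime_pow Nat.prime_two).1 h'
    exact IsPGroup.of_card he
  rcases SuborbitKernels.bound_or_prime hprim hd (by norm_num) with h | ⟨p, hp, A, hAM, hAN, hne, hn, hpA, hidx, -⟩
  · exact small M inf_le_left rfl h
  rcases SuborbitKernels.bound_or_prime hprim hd' (by norm_num) with h | ⟨q, hq, A', hAN', hAM', hne', hn', hqA, hidx', -⟩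
  · exact small N inf_le_right hcard h
  have hAB : A ≤ B := le_inf hAM hAN
  have hAB' : A' ≤ B := le_inf hAM' hAN'
  have e1 := fin M inf_le_left rfl A hAB hidx
  have e2 := fin N inf_le_right hcard A' hAB' hidx'
  have two : ∀ (C : Subgroup G) (r : ℕ), C ≤ B → IsPGroup r C → r = 2 → C.relIndex B ∣ 2 ^ 4 → IsPGroup 2 B := by
    intro C r hC hrC hr h
    subst hr
    haveI : Fact (Nat.Prime 2) := ⟨Nat.prime_two⟩
    obtain ⟨e, he⟩ := IsPGroup.iff_card.1 hrC
    obtain ⟨f, -, hf⟩ := (Nat.dvd_prime_pow Nat.prime_two).1 h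
    refine IsPGroup.of_card (n := e + f) ?_
    rw [← Subgroup.card_mul_index (C.subgroupOf B), Nat.card_congr (Subgroup.subgroupOfEquivOfLe hC).toEquiv, he,
      ← Subgroup.relIndex, hf, pow_add]
  by_cases hp2 : p = 2
  · exact two A p hAB hpA hp2 e1
  by_cases hq2 : q = 2
  · exact two A' q hAB' hqA hq2 e2
  exfalso
  have odd_le : ∀ (C D : Subgroup G) (r : ℕ), C ≤ B → D ≤ B → B ≤ normalizer (D : Set G) → r.Prime → r ≠ 2 → IsPGroup r C →
      D.relIndex B ∣ 2 ^ 4 → C ≤ D := by
    intro C D r hC hD hDn hr hr2 hrC h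
    haveI := Subgroup.normal_subgroupOf_of_le_normalizer hDn
    intro z hz
    obtain ⟨e, he⟩ := hrC ⟨z, hz⟩
    have hz' : z ^ r ^ e = 1 := by simpa using congrArg Subtype.val he
    have h1 : (QuotientGroup.mk' (D.subgroupOf B) ⟨z, hC hz⟩) ^ r ^ e = 1 := by
      rw [← map_pow]
      convert map_one (QuotientGroup.mk' (D.subgroupOf B))
      exact Subtype.ext (by simpa using hz')
    have h2 : orderOf (QuotientGroup.mk' (D.subgroupOf B) ⟨z, hC hz⟩) ∣ 2 ^ 4 :=
      (_root_.orderOf_dvd_natCard _).trans h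
    have h3 : orderOf (QuotientGroup.mk' (D.subgroupOf B) ⟨z, hC hz⟩) = 1 :=
      Nat.eq_one_of_dvd_coprimes ((Nat.coprime_primes hr Nat.prime_two).2 hr2 |>.pow e 4) (orderOf_dvd_of_pow_eq_one h1) h2
    rw [orderOf_eq_one_iff, QuotientGroup.mk'_apply, QuotientGroup.eq_one_iff] at h3
    exact h3
  have heq : A = A' := le_antisymm (odd_le A A' p hAB hAB' (inf_le_right.trans hn') hp hp2 hpA e2)
    (odd_le A' A q hAB' hAB (inf_le_left.trans hn) hq hq2 hqA e1)
  obtain ⟨hco, hcore⟩ := SuborbitKernels.maximal hprim hd (by norm_num) a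
  have hle : M ⊔ N ≤ normalizer (A : Set G) := sup_le hn (heq ▸ hn')
  rcases eq_or_lt_of_le (le_sup_left : M ≤ M ⊔ N) with h | h
  · refine SuborbitKernels.stabilizer_ne hd (by norm_num) ?_
    show M = N
    exact (Subgroup.eq_of_le_of_card_ge (le_sup_right.trans h.ge) hcard.ge).symm
  · rw [hco.2 _ h, top_le_iff] at hle
    haveI : A.Normal := Subgroup.normalizer_eq_top_iff.1 hle
    exact hne (eq_bot_iff.2 (hcore ▸ Subgroup.normal_le_normalCore.2 hAM))

/-- Either the stabilizer has order three, or Tutte's chain exists. -/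
theorem dichotomy (hprim : MulAction.IsPreprimitive G Ω)
    (hd : Nat.card (MulAction.orbit (MulAction.stabilizer G a) b) = 3) :
    Nat.card (MulAction.stabilizer G a) = 3 ∨
      ∃ (k : ℕ) (t : G), Data (MulAction.stabilizer G a) t k := by
  set M := MulAction.stabilizer G a with hM
  set N := MulAction.stabilizer G b with hN
  set B := M ⊓ N with hB
  have hB2 := isPGroup_inf hprim hd
  haveI : Fact (Nat.Prime 2) := ⟨Nat.prime_two⟩
  obtain ⟨k, hk⟩ := IsPGroup.iff_card.1 hB2
  have hMd : B.relIndex M = 3 := SuborbitKernels.relIndex_left hd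
  have hcM : Nat.card M = 2 ^ k * 3 := by
    rw [← hk, ← hMd, ← Nat.card_congr (Subgroup.subgroupOfEquivOfLe (inf_le_left : B ≤ M)).toEquiv, Subgroup.relIndex,
      Subgroup.card_mul_index]
  obtain ⟨g, hg⟩ := MulAction.exists_smul_eq G a b
  have hgN : N = M.map (cj g) := by
    rw [hN, ← hg, MulAction.stabilizer_smul_eq_stabilizer_map_conj]
  have hmax : ∀ X : Subgroup G, ∀ c : Ω, X ≠ ⊥ → X ≤ MulAction.stabilizer G c →
      MulAction.stabilizer G c ≤ normalizer (X : Set G) → normalizer (X : Set G) = MulAction.stabilizer G c := by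
    intro X c hX hXc hle
    obtain ⟨hco, hcore⟩ := SuborbitKernels.maximal hprim hd (by norm_num) c
    rcases eq_or_lt_of_le hle with h | h
    · exact h.symm
    haveI : X.Normal := Subgroup.normalizer_eq_top_iff.mp (hco.2 _ h)
    exact absurd (eq_bot_iff.mpr (hcore ▸ Subgroup.normal_le_normalCore.mpr hXc)) hX
  have hne := SuborbitKernels.stabilizer_ne hd (show 2 ≤ 3 by norm_num)
  by_cases hBn : M ≤ normalizer (B : Set G)
  · left
    -- the conjugate of `B` is `B`
    have hsub : B.map (cj g) ≤ N := by rw [hgN]; exact Subgroup.map_mono inf_le_left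
    have hnorm : N ≤ normalizer (B.map (cj g) : Set G) := by
      rw [hgN]; exact (Subgroup.map_mono hBn).trans (Subgroup.le_normalizer_map _)
    have hp : IsPGroup 2 ↥(B.map (cj g) ⊔ B) := (hB2.map _).to_sup_of_normal_left' hB2 (inf_le_right.trans hnorm)
    obtain ⟨j, hj⟩ := IsPGroup.iff_card.1 hp
    have hle : B.map (cj g) ⊔ B ≤ N := sup_le hsub inf_le_right
    have hd2 := Subgroup.card_dvd_of_le hle
    rw [SuborbitKernels.card_eq hprim, hcM, hj] at hd2
    have hjk : j ≤ k := (Nat.pow_dvd_pow_iff_le_right (by norm_num)).1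
      ((Nat.Coprime.pow_left j (by norm_num : Nat.Coprime 2 3)).dvd_of_dvd_mul_right hd2)
    have e1 : B.map (cj g) ⊔ B = B :=
      (Subgroup.eq_of_le_of_card_ge le_sup_right (by rw [hj, hk]; exact Nat.pow_le_pow_right (by norm_num) hjk)).symm
    have e2 : B.map (cj g) = B := Subgroup.eq_of_le_of_card_ge (le_sup_left.trans e1.le) (card_map_cj g B).ge
    rw [e2] at hnorm
    by_cases hbot : B = ⊥
    · have h1 : Nat.card B = 1 := by rw [hbot, Subgroup.card_bot]
      rw [hcM, ← hk, h1, one_mul]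
    · refine absurd ?_ hne
      rw [← hmax B a hbot inf_le_left hBn, hmax B b hbot inf_le_right hnorm]
  · right
    obtain ⟨t, ht, htB⟩ : ∃ t : G, t • a = b ∧ B.map (cj t) ≠ B := by
      by_cases hgB : B.map (cj g) = B
      · obtain ⟨h, hhM, hh⟩ := Set.not_subset.1 hBn
        refine ⟨g * h, by rw [mul_smul, MulAction.mem_stabilizer_iff.1 hhM, hg], fun e => hh ?_⟩
        rw [← map_cj_cj] at e
        exact map_cj_eq_self (Subgroup.map_injective (f := cj g) (MulAut.conj g).injective (e.trans hgB.symm))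
      · exact ⟨g, hg, hgB⟩
    have htN : N = M.map (cj t) := by
      rw [hN, ← ht, MulAction.stabilizer_smul_eq_stabilizer_map_conj]
    refine ⟨k, t, fun X => hmax X a, fun htM => hne ?_, hcM, ?_, ?_⟩
    · show M = N
      rw [hN, ← ht, MulAction.mem_stabilizer_iff.1 htM]
    · show Nat.card ↥(M ⊓ M.map (cj t)) = 2 ^ k
      rw [← htN]; exact hk
    · show (M ⊓ M.map (cj t)).map (cj t) ≠ M ⊓ M.map (cj t)
      rw [← htN]; exact htB

theorem Data.full {M : Subgroup G} {t : G} {k : ℕ} (hD : Data M t k) :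
    ∃ x : ℤ → G, Full x t k ∧ Nonempty (M ≃* seg x 0 (k + 1)) := by
  obtain ⟨x, hC, hN, -, htop⟩ := hD.exists_chain
  refine ⟨x, ⟨hC, hN, ?_, hD.card_desc.1⟩, ?_⟩
  · rw [htop, card_map_cj, hD.card]
  · exact ⟨(M.equivMapOfInjective (cj (t ^ (k : ℤ))) (MulAut.conj _).injective).trans (MulEquiv.subgroupCongr htop.symm)⟩

theorem Data.k_le {M : Subgroup G} {t : G} {k : ℕ} (hD : Data M t k) : k ≤ 4 := by
  obtain ⟨x, hF, -⟩ := hD.full
  exact hF.chain.le_four hF.nonorm

/-- A central involution outside a subgroup of index `6` is an odd permutation of the cosets. -/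
theorem sign_central {H : Type*} [Group H] [Finite H] (L : Subgroup H) (hL : L.index = 6) (z : H)
    (hz : ∀ u : H, z * u = u * z) (hz2 : z * z = 1) (hzL : z ∉ L) [Fintype (H ⧸ L)] [DecidableEq (H ⧸ L)] :
    Equiv.Perm.sign (MulAction.toPermHom H (H ⧸ L) z) = -1 := by
  set σ := MulAction.toPermHom H (H ⧸ L) z
  have hfix : ∀ q : H ⧸ L, σ q ≠ q := by
    intro q h
    induction q using QuotientGroup.induction_on with
    | _ u =>
      have h' : ((z * u : H) : H ⧸ L) = (u : H ⧸ L) := h
      rw [QuotientGroup.eq, hz u, mul_inv_rev, mul_assoc, inv_mul_cancel, mul_one] at h'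
      exact hzL (by simpa using L.inv_mem h')
  haveI : Nonempty (H ⧸ L) := ⟨((1 : H) : H ⧸ L)⟩
  have hσ : σ ≠ 1 := fun h => hfix (Classical.arbitrary _) (by rw [h]; rfl)
  have ho : orderOf σ = 2 := orderOf_eq_prime (by rw [← map_pow, pow_two, hz2, map_one]) hσ
  obtain ⟨n, hn⟩ := Equiv.Perm.cycleType_prime_order (σ := σ) (by rw [ho]; exact Nat.prime_two)
  have hs : σ.support = Finset.univ := Finset.eq_univ_iff_forall.2 fun q => Equiv.Perm.mem_support.2 (hfix q)
  have hsum := Equiv.Perm.sum_cycleType σ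
  rw [hn, Multiset.sum_replicate, smul_eq_mul, ho, hs, Finset.card_univ, ← Nat.card_eq_fintype_card] at hsum
  have h6 : Nat.card (H ⧸ L) = 6 := hL
  rw [h6] at hsum
  rw [Equiv.Perm.sign_of_cycleType', hn, ho, show n = 2 by omega]
  simp [Multiset.map_replicate]

theorem four_iso {t : G} {x : ℤ → G} (hF : Full x t 4) :
    Nonempty (seg x 0 (4 + 1) ≃* Equiv.Perm (Fin 4) × Multiplicative (ZMod 2)) := by
  classical
  set H := seg x 0 (4 + 1) with hH
  obtain ⟨l, f, hl, hN, hnc, hk⟩ := hF.sylow_action (Or.inr rfl)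
  obtain rfl : l = 3 := hl
  obtain ⟨-, hker⟩ : (4 : ℕ) = 4 ∧ ∀ u, f u = 1 → (u : G) = 1 ∨ (u : G) = x 2 :=
    hk.resolve_left fun h => absurd h.1 (by norm_num)
  have hC := hF.chain
  let a : H := ⟨x 0, mem_seg le_rfl (by norm_num)⟩
  let c : H := ⟨x 3, mem_seg (by norm_num) (by norm_num)⟩
  let z : H := ⟨x 2, mem_seg (by norm_num) (by norm_num)⟩
  have hz : ∀ u : H, z * u = u * z := fun u =>
    Subtype.ext (commute_seg (fun j p q => hN _ _ (by omega) (by omega)) u.2).eq
  set r := a * c with hr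
  set y := r * r with hy
  have hyv : (y : G) = x 0 * x (3 : ℤ) * x 0 * x (3 : ℤ) := by
    show x 0 * x 3 * (x 0 * x 3) = _
    group
  have hy1 : (y : G) ∈ seg x 1 2 := by
    rw [hyv]; exact hC.commutator_mem (i := 0) (n := 2) (by norm_num)
  have hyne : y ≠ 1 := by
    intro e
    apply hnc
    show x 0 * x 3 = x 3 * x 0
    have e' : x 0 * x (3 : ℤ) * x 0 * x (3 : ℤ) = 1 := hyv ▸ congrArg Subtype.val e
    calc x 0 * x 3 = (x 0 * x (3 : ℤ) * x 0 * x (3 : ℤ)) * (x 3)⁻¹ * (x 0)⁻¹ := by group
      _ = x 3 * x 0 := by rw [e', one_mul, hC.inv_eq, hC.inv_eq]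
  have hyy : y * y = 1 := by
    refine Subtype.ext ?_
    show (y : G) * (y : G) = 1
    rcases mem_seg_two hC hN (by norm_num) hy1 with e | e | e | e <;> rw [e]
    · rw [one_mul]
    · exact hC.sq _
    · exact hC.sq _
    norm_num
    rw [show x 1 * x 2 * (x 1 * x 2) = x 1 * (x 2 * x 1) * x 2 by group, (hN 2 1 (by norm_num) (by norm_num)).eq,
      show x 1 * (x 1 * x 2) * x 2 = x 1 * x 1 * (x 2 * x 2) by group, hC.sq, hC.sq, mul_one]
  have ha : a * a = 1 := Subtype.ext (hC.sq 0)
  have hc : c * c = 1 := Subtype.ext (hC.sq 3)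
  have har : a * r * a = r⁻¹ := by
    rw [hr, mul_inv_rev, inv_eq_of_mul_eq_one_right hc, inv_eq_of_mul_eq_one_right ha, ← mul_assoc, ha, one_mul]
  set L : Subgroup H := Subgroup.closure {a, c} with hLd
  have haL : a ∈ L := Subgroup.subset_closure (by simp)
  have hcL : c ∈ L := Subgroup.subset_closure (by simp)
  have hform : ∀ u ∈ L, ∃ i : ℤ, u = r ^ i ∨ u = a * r ^ i := by
    have hmv : ∀ i : ℤ, r ^ i * a = a * r ^ (-i) := fun i => by
      have e : (a * r * a⁻¹) ^ i = a * r ^ i * a⁻¹ := conj_zpow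
      rw [inv_eq_of_mul_eq_one_right ha, har, inv_zpow'] at e
      rw [e, ← mul_assoc, ← mul_assoc, ha, one_mul]
    intro u hu
    induction hu using Subgroup.closure_induction with
    | mem w hw =>
      rcases hw with rfl | rfl
      · exact ⟨0, Or.inr (by simp)⟩
      · exact ⟨1, Or.inr (by rw [zpow_one, hr, ← mul_assoc, ha, one_mul])⟩
    | one => exact ⟨0, Or.inl (by simp)⟩
    | mul v w _ _ hv hw =>
      obtain ⟨i, rfl | rfl⟩ := hv <;> obtain ⟨j, rfl | rfl⟩ := hw
      · exact ⟨i + j, Or.inl (zpow_add r i j).symm⟩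
      · exact ⟨-i + j, Or.inr (by rw [← mul_assoc, hmv, mul_assoc, zpow_add])⟩
      · exact ⟨i + j, Or.inr (by rw [mul_assoc, ← zpow_add])⟩
      · exact ⟨-i + j, Or.inl (by rw [show a * r ^ i * (a * r ^ j) = a * (r ^ i * a) * r ^ j by group, hmv,
          ← mul_assoc a a, ha, one_mul, zpow_add])⟩
    | inv v _ hv =>
      obtain ⟨i, rfl | rfl⟩ := hv
      · exact ⟨-i, Or.inl (zpow_neg r i).symm⟩
      · exact ⟨i, Or.inr (by rw [mul_inv_rev, inv_eq_of_mul_eq_one_right ha, ← zpow_neg, hmv, neg_neg])⟩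
  have hx01 : ¬ (x 0 ∈ seg x 1 2) := fun h =>
    hC.ne_one (by norm_num) 0 (hC.disjoint hN (i := 0) (m := 1) (n := 2) (by norm_num) (by norm_num)
      (mem_seg le_rfl (by norm_num)) (by simpa using h))
  have hzy : z ≠ y := fun e => hF.ne_middle hN hnc (hyv ▸ (congrArg Subtype.val e).symm)
  have hr4 : r ^ (4 : ℤ) = 1 := by
    rw [show r ^ (4 : ℤ) = (r * r) * (r * r) by simp [zpow_ofNat, pow_succ, mul_assoc], ← hy, hyy]
  have hpar : ∀ i : ℤ, r ^ i = 1 ∨ r ^ i = y ∨ r ^ i = r ∨ r ^ i = r * y := by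
    intro i
    have e : r ^ i = r ^ (i % 4) := by
      conv_lhs => rw [← Int.emod_add_mul_ediv i 4, zpow_add, zpow_mul, hr4, one_zpow, mul_one]
    rcases (show i % 4 = 0 ∨ i % 4 = 1 ∨ i % 4 = 2 ∨ i % 4 = 3 by omega) with h | h | h | h <;> rw [e, h]
    · exact Or.inl (zpow_zero r)
    · exact Or.inr (Or.inr (Or.inl (zpow_one r)))
    · exact Or.inr (Or.inl (by rw [hy]; simp [zpow_ofNat, pow_succ]))
    · exact Or.inr (Or.inr (Or.inr (by rw [hy]; simp [zpow_ofNat, pow_succ, mul_assoc])))
  have hac : a * c ≠ c * a := fun h => hnc (congrArg Subtype.val h)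
  have hry : Commute a (r * y) → False := fun h => by
    apply hac
    have hy' : Commute a y := by
      show a * y = y * a
      have e : a * y * a = y⁻¹ := by
        rw [hy, show a * (r * r) * a = a * r * (a * a) * r * a by rw [ha]; group,
          show a * r * (a * a) * r * a = (a * r * a) * (a * r * a) by group, har, ← mul_inv_rev]
      rw [inv_eq_of_mul_eq_one_right hyy] at e
      calc a * y = a * y * (a * a) := by rw [ha, mul_one]
        _ = (a * y * a) * a := by group
        _ = y * a := by rw [e]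
    have h2 := h.mul_right hy'.inv_right
    rw [mul_inv_cancel_right] at h2
    have h3 : a * (a * c) = a * c * a := h2
    rw [← mul_assoc, ha, one_mul] at h3
    calc a * c = a * c * (a * a) := by rw [ha, mul_one]
      _ = (a * c * a) * a := by group
      _ = c * a := by rw [← h3]
  have hra : Commute a r → False := fun h => hry (h.mul_right (by
    show a * (r * r) = r * r * a
    exact ((h.mul_right h)).eq))
  have hzL : z ∉ L := by
    intro hzm
    obtain ⟨i, hi | hi⟩ := hform z hzm
    · rcases hpar i with e | e | e | e <;> rw [e] at hi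
      · exact hC.ne_one (by norm_num) 2 (congrArg Subtype.val hi)
      · exact hzy hi
      · exact hra (hi ▸ (hz a).symm)
      · exact hry (hi ▸ (hz a).symm)
    · have hza : Commute a z := (hz a).symm
      have h1 : Commute a (r ^ i) := by
        have := (Commute.refl a).inv_right.mul_right hza
        rwa [hi, ← mul_assoc, inv_mul_cancel, one_mul] at this
      rcases hpar i with e | e | e | e <;> rw [e] at hi h1
      · rw [mul_one] at hi
        exact hx01 (by
          have : x 2 = x 0 := congrArg Subtype.val hi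
          rw [← this]
          exact mem_seg (by norm_num) (by norm_num))
      · apply hx01
        have hv : x 2 = x 0 * (y : G) := congrArg Subtype.val hi
        rw [show x 0 = x 2 * (y : G)⁻¹ by rw [hv, mul_inv_cancel_right]]
        exact Subgroup.mul_mem _ (mem_seg (by norm_num) (by norm_num)) (Subgroup.inv_mem _ hy1)
      · exact hra h1
      · exact hry h1
  have hyL : y ∈ L := L.mul_mem (L.mul_mem haL hcL) (L.mul_mem haL hcL)
  set S := (seg x 0 4).subgroupOf H with hS
  have hLS : L ≤ S := (Subgroup.closure_le _).2 (by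
    rintro w (rfl | rfl)
    · exact mem_seg le_rfl (by norm_num)
    · exact mem_seg (by norm_num) (by norm_num))
  have hzS : z ∈ S := mem_seg (by norm_num) (by norm_num)
  have hcov : ∀ s ∈ S, s ∈ L ∨ z * s ∈ L := by
    intro s hs
    have hle : seg x 0 4 ≤ (L ⊔ Subgroup.zpowers z).map H.subtype := by
      refine seg_le fun j p q => ?_
      rcases (show j = 0 ∨ j = 1 ∨ j = 2 ∨ j = 3 by omega) with rfl | rfl | rfl | rfl
      · exact ⟨a, Subgroup.mem_sup_left haL, rfl⟩
      · have hx1 : x 1 ∈ H := mem_seg (by norm_num) (by norm_num)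
        refine ⟨⟨x 1, hx1⟩, ?_, rfl⟩
        rcases mem_seg_two hC hN (by norm_num) hy1 with e | e | e | e <;> norm_num at e
        · exact absurd e hyne
        · exact Subgroup.mem_sup_left ((show (⟨x 1, hx1⟩ : H) = y from Subtype.ext e.symm) ▸ hyL)
        · exact absurd (Subtype.ext e : y = z).symm hzy
        · have : (⟨x 1, hx1⟩ : H) = y * z := Subtype.ext (show x 1 = (y : G) * x 2 by rw [e, mul_assoc, hC.sq, mul_one])
          rw [this]
          exact Subgroup.mul_mem _ (Subgroup.mem_sup_left hyL) (Subgroup.mem_sup_right (Subgroup.mem_zpowers z))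
      · exact ⟨z, Subgroup.mem_sup_right (Subgroup.mem_zpowers z), rfl⟩
      · exact ⟨c, Subgroup.mem_sup_left hcL, rfl⟩
    obtain ⟨w, hw, hws⟩ := hle hs
    rw [show w = s from Subtype.ext hws] at hw
    clear hws hs
    rw [Subgroup.sup_eq_closure] at hw
    induction hw using Subgroup.closure_induction with
    | mem v hv =>
      rcases hv with hv | hv
      · exact Or.inl hv
      · obtain ⟨i, rfl⟩ := hv
        have hzz : z * z = 1 := Subtype.ext (hC.sq 2)
        rcases Int.even_or_odd' i with ⟨j, rfl | rfl⟩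
        · exact Or.inl (by show z ^ (2 * j) ∈ L; rw [zpow_mul, zpow_two, hzz, one_zpow]; exact L.one_mem)
        · exact Or.inr (by
            show z * z ^ (2 * j + 1) ∈ L
            rw [zpow_add, zpow_mul, zpow_two, hzz, one_zpow, one_mul, zpow_one, hzz]; exact L.one_mem)
    | one => exact Or.inl L.one_mem
    | mul v w _ _ hv hw =>
      have hzz : z * z = 1 := Subtype.ext (hC.sq 2)
      rcases hv with hv | hv <;> rcases hw with hw | hw
      · exact Or.inl (L.mul_mem hv hw)
      · exact Or.inr (by rw [← mul_assoc, hz v, mul_assoc]; exact L.mul_mem hv hw)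
      · exact Or.inr (by rw [← mul_assoc]; exact L.mul_mem hv hw)
      · refine Or.inl ?_
        have e : v * w = z * v * (z * w) := by rw [hz v, mul_assoc v z, ← mul_assoc z z, hzz, one_mul]
        rw [e]; exact L.mul_mem hv hw
    | inv v _ hv =>
      rcases hv with hv | hv
      · exact Or.inl (L.inv_mem hv)
      · refine Or.inr ?_
        have := L.inv_mem hv
        rwa [mul_inv_rev, inv_eq_of_mul_eq_one_right (show z * z = 1 from Subtype.ext (hC.sq 2)), ← hz] at this
  have hind : L.index = 6 := by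
    rw [← Subgroup.relIndex_mul_index hLS]
    have h1 : L.relIndex S = 2 := by
      rw [Subgroup.relIndex, Subgroup.index_eq_two_iff]
      refine ⟨⟨z, hzS⟩, fun s => ?_⟩
      simp only [Subgroup.mem_subgroupOf, Subgroup.coe_mul]
      rcases hcov s s.2 with h | h
      · refine Or.inr ⟨h, fun h' => hzL ?_⟩
        have := L.mul_mem (L.inv_mem h) h'
        rwa [← mul_assoc, inv_mul_cancel, one_mul] at this
      · refine Or.inl ⟨hz (s : H) ▸ h, fun h' => hzL ?_⟩
        have := L.mul_mem h (L.inv_mem h')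
        rwa [mul_assoc, mul_inv_cancel, mul_one] at this
    have h2 := S.card_mul_index
    rw [Nat.card_congr (Subgroup.subgroupOfEquivOfLe hF.left_le).toEquiv, hC.card 0 4 le_rfl, hF.card] at h2
    rw [h1, Nat.eq_of_mul_eq_mul_left (by norm_num) h2]
  haveI := Fintype.ofFinite (H ⧸ L)
  have hsgn := sign_central L hind z hz (Subtype.ext (hC.sq 2)) hzL
  haveI : Fact (Nat.Prime 2) := ⟨Nat.prime_two⟩
  let e : ℤˣ ≃* Multiplicative (ZMod 2) := mulEquivOfPrimeCardEq (p := 2)
    (by rw [Nat.card_eq_fintype_card]; rfl) (by rw [Nat.card_eq_fintype_card]; rfl)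
  refine nonempty_mulEquiv_of_ker (f.prod (e.toMonoidHom.comp (Equiv.Perm.sign.comp (MulAction.toPermHom H (H ⧸ L))))) ?_
    (by rw [hF.card, Nat.card_prod, Nat.card_perm, Nat.card_fin]; simp [Nat.factorial])
  refine eq_bot_iff.2 fun u hu => ?_
  have hu1 : f u = 1 := congrArg Prod.fst hu
  have hu2 : Equiv.Perm.sign (MulAction.toPermHom H (H ⧸ L) u) = 1 := by
    have h := congrArg Prod.snd hu
    exact (map_eq_one_iff e e.injective).1 h
  rcases hker u hu1 with h | h
  · exact Subgroup.mem_bot.2 (Subtype.ext h)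
  · rw [show u = z from Subtype.ext h, hsgn] at hu2
    exact absurd hu2 (by decide)

end Cfsg.Agent.PermGroups.CubicSuborbit
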