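import Cfsg.Agent.PermGroups.SuborbitKernels
import Cfsg.Agent.PermGroups.CubicSuborbit.Chain

/-!
A suborbit of length three: either the point stabilizer has order three, or Tutte's chain of involutions exists.
-/

set_option autoImplicit false

open Subgroup

namespace Cfsg.Agent.PermGroups.CubicSuborbit

variable {G : Type*} [Group G] [Finite G]

/-- Conjugation by `g`. -/
abbrev cj (g : G) : G →* G := (MulAut.conj g).toMonoidHom

theorem map_cj_cj (g h : G) (L : Subgroup G) : (L.map (cj h)).map (cj g) = L.map (cj (g * h)) := by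
  rw [Subgroup.map_map]; congr 1; ext z; simp [mul_assoc]

theorem map_cj_one (L : Subgroup G) : L.map (cj (1 : G)) = L := by
  convert L.map_id using 2; ext z; simp

theorem card_map_cj (g : G) (L : Subgroup G) : Nat.card (L.map (cj g)) = Nat.card L :=
  Subgroup.card_map_of_injective (MulAut.conj g).injective

theorem map_cj_eq_self {g : G} {L : Subgroup G} (h : L.map (cj g) = L) : g ∈ normalizer (L : Set G) := by
  rw [Subgroup.mem_normalizer_iff]
  intro z
  constructor
  · intro hz
    have : (cj g) z ∈ L.map (cj g) := Subgroup.mem_map_of_mem _ hz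
    rwa [h] at this
  · intro hz
    have hz' : g * z * g⁻¹ ∈ L.map (cj g) := h.symm ▸ hz
    obtain ⟨w, hw, e⟩ := hz'
    rwa [← (MulAut.conj g).injective e]

/-- Descending intersections of translates. -/
def desc (M : Subgroup G) (t : G) : ℕ → Subgroup G
  | 0 => M
  | n + 1 => M ⊓ (desc M t n).map (cj t)

theorem desc_succ_le (M : Subgroup G) (t : G) (n : ℕ) : desc M t (n + 1) ≤ desc M t n := by
  induction n with
  | zero => exact inf_le_left
  | succ n ih => exact inf_le_inf_left _ (Subgroup.map_mono ih)

theorem desc_anti (M : Subgroup G) (t : G) {m n : ℕ} (h : m ≤ n) : desc M t n ≤ desc M t m := by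
  induction h with
  | refl => exact le_rfl
  | step _ ih => exact (desc_succ_le M t _).trans ih

/-- The group data of a suborbit of length three whose two point stabilizer is not normal. -/
structure Data (M : Subgroup G) (t : G) (k : ℕ) : Prop where
  maximal : ∀ X : Subgroup G, X ≠ ⊥ → X ≤ M → M ≤ normalizer (X : Set G) → normalizer (X : Set G) = M
  t_notMem : t ∉ M
  card : Nat.card M = 2 ^ k * 3
  card_one : Nat.card (desc M t 1) = 2 ^ k
  ne : (desc M t 1).map (cj t) ≠ desc M t 1

variable {M : Subgroup G} {t : G} {k : ℕ}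

theorem Data.relIndex_le (hD : Data M t k) (n : ℕ) :
    (desc M t (n + 2)).relIndex (desc M t (n + 1)) ≤ 2 := by
  induction n with
  | zero =>
    set B := desc M t 1 with hB
    have hBp : IsPGroup 2 B := IsPGroup.of_card hD.card_one
    have hBM : B ≤ M := inf_le_left
    have hBt : B ≤ M.map (cj t) := inf_le_right
    have h3 : (B.map (cj t)).relIndex (M.map (cj t)) = 3 := by
      rw [Subgroup.relIndex_map_map_of_injective _ _ (MulAut.conj t).injective, Subgroup.relIndex]
      have h := (B.subgroupOf M).card_mul_index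
      rw [Nat.card_congr (Subgroup.subgroupOfEquivOfLe hBM).toEquiv, hD.card_one, hD.card] at h
      exact Nat.eq_of_mul_eq_mul_left (by positivity) h
    have e : (desc M t 2).relIndex B = (B.map (cj t)).relIndex B := by
      show (M ⊓ B.map (cj t)).relIndex B = _
      rw [← Subgroup.inf_relIndex_right (M ⊓ B.map (cj t)), ← Subgroup.inf_relIndex_right (B.map (cj t)),
        inf_assoc, inf_eq_right.2 (inf_le_right.trans hBM)]
    rw [e]
    have hle : (B.map (cj t)).relIndex B ≤ 3 := by
      refine le_trans (Subgroup.relIndex_le_of_le_right hBt ?_) h3.le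
      rw [h3]; norm_num
    obtain ⟨j, hj⟩ := hBp.index ((B.map (cj t)).subgroupOf B)
    rw [Subgroup.relIndex] at hle ⊢
    rw [hj] at hle ⊢
    rcases Nat.lt_or_ge j 2 with h | h
    · interval_cases j <;> norm_num
    · have := Nat.pow_le_pow_right (show 0 < 2 by norm_num) h
      omega
  | succ n ih =>
    have hle0 : desc M t (n + 2) ≤ M := desc_anti M t (Nat.zero_le (n + 2))
    have e : (desc M t (n + 1 + 2)).relIndex (desc M t (n + 1 + 1))
        = ((desc M t (n + 2)).map (cj t)).relIndex (desc M t (n + 2)) := by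
      show (M ⊓ (desc M t (n + 2)).map (cj t)).relIndex (desc M t (n + 2)) = _
      rw [← Subgroup.inf_relIndex_right (M ⊓ (desc M t (n + 2)).map (cj t)),
        ← Subgroup.inf_relIndex_right ((desc M t (n + 2)).map (cj t)), inf_assoc,
        inf_eq_right.2 (inf_le_right.trans hle0)]
    rw [e]
    refine le_trans (Subgroup.relIndex_le_of_le_right (inf_le_right : desc M t (n + 2) ≤ (desc M t (n + 1)).map (cj t))
      ?_) ?_
    · exact Subgroup.index_ne_zero_of_finite
    · rwa [Subgroup.relIndex_map_map_of_injective _ _ (MulAut.conj t).injective]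

theorem Data.card_step (hD : Data M t k) (n : ℕ) :
    desc M t (n + 2) = desc M t (n + 1) ∨ Nat.card (desc M t (n + 1)) = 2 * Nat.card (desc M t (n + 2)) := by
  have hle : desc M t (n + 2) ≤ desc M t (n + 1) := desc_succ_le M t (n + 1)
  have h := ((desc M t (n + 2)).subgroupOf (desc M t (n + 1))).card_mul_index
  rw [Nat.card_congr (Subgroup.subgroupOfEquivOfLe hle).toEquiv] at h
  have h2 := hD.relIndex_le n
  rw [Subgroup.relIndex] at h2
  have h0 : ((desc M t (n + 2)).subgroupOf (desc M t (n + 1))).index ≠ 0 := Subgroup.index_ne_zero_of_finite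
  rcases (show ((desc M t (n + 2)).subgroupOf (desc M t (n + 1))).index = 1 ∨
      ((desc M t (n + 2)).subgroupOf (desc M t (n + 1))).index = 2 by omega) with e | e
  · left
    rw [e, mul_one] at h
    exact Subgroup.eq_of_le_of_card_ge hle h.ge
  · right
    rw [e] at h; omega

/-- The first stationary index. -/
theorem Data.exists_stationary (hD : Data M t k) : ∃ s, desc M t (s + 2) = desc M t (s + 1) := by
  by_contra h
  push Not at h
  have key : ∀ n, Nat.card (desc M t (n + 1)) + n ≤ Nat.card (desc M t 1) := by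
    intro n
    induction n with
    | zero => simp
    | succ n ih =>
      have := (hD.card_step n).resolve_left (h n)
      have : 0 < Nat.card (desc M t (n + 2)) := Nat.card_pos
      show Nat.card (desc M t (n + 2)) + (n + 1) ≤ _
      omega
  have := key (Nat.card (desc M t 1))
  have : 0 < Nat.card (desc M t (Nat.card (desc M t 1) + 1)) := Nat.card_pos
  omega

/-- The orders of the intersections. -/
theorem Data.card_desc (hD : Data M t k) :
    1 ≤ k ∧ desc M t (k + 1) = ⊥ ∧ (∀ n, n ≤ k → Nat.card (desc M t (n + 1)) = 2 ^ (k - n)) ∧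
    (∀ n, n < k → (desc M t (n + 1)).map (cj t⁻¹) ⊔ desc M t (n + 1) = desc M t n) := by
  classical
  have hex := hD.exists_stationary
  set s := Nat.find hex
  have hs : desc M t (s + 2) = desc M t (s + 1) := Nat.find_spec hex
  have hmin : ∀ n, n < s → desc M t (n + 2) ≠ desc M t (n + 1) := fun n hn => Nat.find_min hex hn
  have hcard : ∀ n, n ≤ s → Nat.card (desc M t (n + 1)) * 2 ^ n = 2 ^ k := by
    intro n
    induction n with
    | zero => intro _; simpa using hD.card_one
    | succ n ih =>
      intro hn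
      have := (hD.card_step n).resolve_left (hmin n (by omega))
      rw [← ih (by omega), this, pow_succ]
      ring
  -- the join of two translates
  have hjoin : ∀ n, n < s → (desc M t (n + 1)).map (cj t⁻¹) ⊔ desc M t (n + 1) = desc M t n := by
    intro n hn
    have h1 : (desc M t (n + 1)).map (cj t⁻¹) ≤ desc M t n := by
      refine (Subgroup.map_mono (inf_le_right : desc M t (n + 1) ≤ (desc M t n).map (cj t))).trans ?_
      rw [map_cj_cj, inv_mul_cancel, map_cj_one]
    set J := (desc M t (n + 1)).map (cj t⁻¹) ⊔ desc M t (n + 1) with hJ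
    have hJle : J ≤ desc M t n := sup_le h1 (desc_succ_le M t n)
    have hJne : J ≠ desc M t (n + 1) := by
      intro e
      have h2 : (desc M t (n + 1)).map (cj t⁻¹) = desc M t (n + 1) :=
        Subgroup.eq_of_le_of_card_ge (le_sup_left.trans e.le) (card_map_cj t⁻¹ _).ge
      have h3 : (desc M t (n + 1)).map (cj t) = desc M t (n + 1) := by
        conv_lhs => rw [← h2, map_cj_cj, mul_inv_cancel, map_cj_one]
      apply hmin n hn
      show M ⊓ (desc M t (n + 1)).map (cj t) = desc M t (n + 1)
      rw [h3, inf_eq_right]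
      exact desc_anti M t (Nat.zero_le _)
    have hge : desc M t (n + 1) ≤ J := le_sup_right
    have hlt : Nat.card (desc M t (n + 1)) < Nat.card J := by
      by_contra hnot
      exact hJne (Subgroup.eq_of_le_of_card_ge hge (not_lt.1 hnot)).symm
    refine Subgroup.eq_of_le_of_card_ge hJle ?_
    obtain ⟨c, hc⟩ := Subgroup.card_dvd_of_le hge
    obtain ⟨d, hd⟩ := Subgroup.card_dvd_of_le hJle
    rcases Nat.eq_zero_or_pos n with rfl | hn0
    · have e0 : Nat.card (desc M t 0) = Nat.card (desc M t (0 + 1)) * 3 := by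
        rw [zero_add, hD.card_one, ← hD.card]; rfl
      rw [hc, mul_assoc] at hd
      rw [e0] at hd ⊢
      have := Nat.eq_of_mul_eq_mul_left Nat.card_pos hd
      rcases (Nat.dvd_prime Nat.prime_three).1 ⟨d, this⟩ with h | h
      · rw [h, mul_one] at hc; omega
      · rw [hc, h]
    · obtain ⟨m, rfl⟩ : ∃ m, n = m + 1 := ⟨n - 1, by omega⟩
      have e0 := (hD.card_step m).resolve_left (hmin m (by omega))
      rw [hc, mul_assoc, e0, mul_comm 2] at hd
      rw [e0]
      have := Nat.eq_of_mul_eq_mul_left Nat.card_pos hd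
      rcases (Nat.dvd_prime Nat.prime_two).1 ⟨d, this⟩ with h | h
      · rw [h, mul_one] at hc; omega
      · rw [hc, h, mul_comm]
  -- the last one is trivial
  set R := desc M t (s + 1) with hR
  have hs0 : 1 ≤ s := by
    by_contra h
    have e : s = 0 := by omega
    have h1 : R ≤ R.map (cj t) := hs.symm.le.trans inf_le_right
    have e1 : R = desc M t 1 := by rw [hR, e]
    rw [e1] at h1
    exact hD.ne (Subgroup.eq_of_le_of_card_ge h1 (card_map_cj t _).le).symm
  have htR : R.map (cj t) = R := by
    refine (Subgroup.eq_of_le_of_card_ge ?_ (card_map_cj t _).le).symm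
    calc R = desc M t (s + 2) := hs.symm
      _ ≤ R.map (cj t) := inf_le_right
  set N := normalizer (R : Set G)
  have htN : t ∈ N := map_cj_eq_self htR
  have hlast : desc M t s ≤ N := by
    obtain ⟨m, hm⟩ : ∃ m, s = m + 1 := ⟨s - 1, by omega⟩
    have h1 := (hD.card_step m).resolve_left (hmin m (by omega))
    have hle : R ≤ desc M t s := desc_succ_le M t s
    haveI : (R.subgroupOf (desc M t s)).Normal := by
      apply Subgroup.normal_of_index_eq_two
      have h := (R.subgroupOf (desc M t s)).card_mul_index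
      rw [Nat.card_congr (Subgroup.subgroupOfEquivOfLe hle).toEquiv] at h
      rw [show Nat.card (desc M t s) = 2 * Nat.card R by rw [hR, hm]; exact h1, mul_comm 2] at h
      exact Nat.eq_of_mul_eq_mul_left Nat.card_pos h
    exact (Subgroup.normal_subgroupOf_iff_le_normalizer hle).1 this
  have hall : ∀ j, j ≤ s → desc M t (s - j) ≤ N := by
    intro j
    induction j with
    | zero => intro _; simpa using hlast
    | succ j ih =>
      intro hj
      rw [← hjoin (s - (j + 1)) (by omega), show s - (j + 1) + 1 = s - j by omega]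
      refine sup_le ?_ (ih (by omega))
      rintro _ ⟨z, hz, rfl⟩
      exact N.mul_mem (N.mul_mem (N.inv_mem htN) (ih (by omega) hz)) (N.inv_mem (N.inv_mem htN))
  have hMN : M ≤ N := by simpa [desc] using hall s le_rfl
  have hRb : R = ⊥ := by
    by_contra hne
    have := hD.maximal R hne (desc_anti M t (Nat.zero_le _)) hMN
    exact hD.t_notMem (this ▸ htN)
  have hsk : s = k := by
    have h := hcard s le_rfl
    rw [← hR, hRb, Subgroup.card_bot, one_mul] at h
    exact Nat.pow_right_injective le_rfl h
  refine ⟨hsk ▸ hs0, hsk ▸ hRb, fun n hn => ?_, fun n hn => hjoin n (hsk ▸ hn)⟩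
  have h := hcard n (hsk ▸ hn)
  refine Nat.eq_of_mul_eq_mul_right (pow_pos (show 0 < 2 by norm_num) n) ?_
  rw [h, ← pow_add, Nat.sub_add_cancel hn]

/-- Tutte's chain. -/
theorem Data.exists_chain (hD : Data M t k) : ∃ x : ℤ → G, Chain x t k ∧ NoNorm x k ∧
    (∀ n, n < k → seg x 0 (n + 1) = (desc M t (k - n)).map (cj (t ^ (n : ℤ)))) ∧
    seg x 0 (k + 1) = M.map (cj (t ^ (k : ℤ))) := by
  obtain ⟨hk, -, hcard, hjoin⟩ := hD.card_desc
  obtain ⟨m, hm⟩ : ∃ m, k = m + 1 := ⟨k - 1, by omega⟩
  have hc1 : Nat.card (desc M t k) = 2 := by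
    have := hcard m (by omega)
    rw [← hm, show k - m = 1 by omega, pow_one] at this
    exact this
  haveI : IsCyclic (desc M t k) := isCyclic_of_prime_card (p := 2) hc1
  obtain ⟨⟨x0, hx0⟩, hgen⟩ := IsCyclic.exists_generator (α := desc M t k)
  have hz : Subgroup.closure {x0} = desc M t k := by
    refine le_antisymm ((Subgroup.closure_le _).2 (Set.singleton_subset_iff.2 hx0)) fun z hz => ?_
    obtain ⟨e, he⟩ := hgen ⟨z, hz⟩
    have : x0 ^ e = z := (Subgroup.coe_zpow _ _ _).symm.trans (congrArg Subtype.val he)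
    rw [← this]
    exact (Subgroup.closure ({x0} : Set G)).zpow_mem (Subgroup.subset_closure (Set.mem_singleton x0)) e
  have hx2 : x0 * x0 = 1 := by
    have := pow_card_eq_one' (x := (⟨x0, hx0⟩ : desc M t k))
    rw [hc1, pow_two] at this
    exact congrArg Subtype.val this
  let x : ℤ → G := fun i => t ^ i * x0 * (t ^ i)⁻¹
  have hshift : ∀ (i j : ℤ), (cj (t ^ i)) (x j) = x (i + j) := fun i j => by
    show t ^ i * (t ^ j * x0 * (t ^ j)⁻¹) * (t ^ i)⁻¹ = t ^ (i + j) * x0 * (t ^ (i + j))⁻¹
    rw [zpow_add]; group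
  have hseg : ∀ (i j : ℤ) (n : ℕ), (seg x j n).map (cj (t ^ i)) = seg x (i + j) n := by
    intro i j n
    rw [seg, seg, MonoidHom.map_closure, ← Set.image_comp]
    congr 1
    ext z
    constructor
    · rintro ⟨u, ⟨h1, h2⟩, rfl⟩
      exact ⟨i + u, ⟨by omega, by omega⟩, (hshift i u).symm⟩
    · rintro ⟨u, ⟨h1, h2⟩, rfl⟩
      refine ⟨u - i, ⟨by omega, by omega⟩, ?_⟩
      rw [Function.comp_apply, hshift, add_sub_cancel]
  -- segments at `0`
  have h0 : ∀ n, n ≤ k → seg x 0 (n + 1) = (desc M t (k - n)).map (cj (t ^ (n : ℤ))) := by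
    intro n
    induction n with
    | zero =>
      intro _
      rw [Nat.cast_zero, zpow_zero, map_cj_one, Nat.sub_zero, ← hz, seg]
      congr 1
      ext z
      constructor
      · rintro ⟨u, ⟨h1, h2⟩, rfl⟩
        have : u = 0 := by omega
        subst this
        simp [x]
      · rintro rfl
        exact ⟨0, ⟨le_rfl, by norm_num⟩, by simp [x]⟩
    | succ n ih =>
      intro hn
      have e : seg x 0 (n + 1 + 1) = seg x 0 (n + 1) ⊔ (seg x 0 (n + 1)).map (cj (t ^ (1 : ℤ))) := by
        rw [hseg]
        refine le_antisymm (seg_le fun j a b => ?_) (sup_le (seg_mono le_rfl (by omega)) (seg_mono (by omega) (by omega)))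
        by_cases hj : j < (n : ℤ) + 1
        · exact (le_sup_left : seg x 0 (n + 1) ≤ _) (mem_seg a (by omega))
        · exact (le_sup_right : seg x (1 + 0) (n + 1) ≤ seg x 0 (n + 1) ⊔ seg x (1 + 0) (n + 1))
            (mem_seg (by omega) (by omega))
      rw [e, ih (by omega), map_cj_cj, ← hjoin (k - (n + 1)) (by omega), show k - (n + 1) + 1 = k - n by omega,
        Subgroup.map_sup, map_cj_cj]
      congr 2
      · congr 1; push_cast; rw [zpow_add_one]; group
      · congr 1; push_cast; rw [← zpow_add, add_comm]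
  have hC : Chain x t k := by
    refine ⟨fun i => ?_, fun i => ?_, fun i n hn => ?_⟩
    · have := hshift 1 i
      simp only [zpow_one] at this
      rw [add_comm]; exact this
    · show t ^ i * x0 * (t ^ i)⁻¹ * (t ^ i * x0 * (t ^ i)⁻¹) = 1
      rw [show t ^ i * x0 * (t ^ i)⁻¹ * (t ^ i * x0 * (t ^ i)⁻¹) = t ^ i * (x0 * x0) * (t ^ i)⁻¹ by group, hx2,
        mul_one, mul_inv_cancel]
    · rcases Nat.eq_zero_or_pos n with rfl | hpos
      · rw [seg_zero, Subgroup.card_bot, pow_zero]
      · obtain ⟨j, rfl⟩ : ∃ j, n = j + 1 := ⟨n - 1, by omega⟩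
        rw [show i = i + 0 by omega, ← hseg, card_map_cj, h0 j (by omega), card_map_cj]
        have := hcard (k - j - 1) (by omega)
        rwa [show k - j - 1 + 1 = k - j by omega, show k - (k - j - 1) = j + 1 by omega] at this
  have htop : seg x 0 (k + 1) = M.map (cj (t ^ (k : ℤ))) := by
    simpa [desc] using h0 k le_rfl
  refine ⟨x, hC, ?_, fun n hn => h0 n hn.le, htop⟩
  intro i X hX hXle h1 h2
  have hs : ∀ u : ℤ, seg x u (k + 1) = M.map (cj (t ^ (u + k))) := fun u => by
    rw [zpow_add, ← map_cj_cj, ← htop, hseg, add_zero]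
  rw [hs] at hXle h1
  rw [hs] at h2
  -- translate back to `M`
  set u := t ^ (i + k) with hu
  set X' := X.map (cj u⁻¹) with hX'
  have hX'ne : X' ≠ ⊥ := fun h => hX ((Subgroup.map_eq_bot_iff_of_injective _ (MulAut.conj u⁻¹).injective).1 h)
  have hX'M : X' ≤ M := (Subgroup.map_mono hXle).trans (by rw [map_cj_cj, inv_mul_cancel, map_cj_one])
  have hn1 : M ≤ normalizer (X' : Set G) := by
    refine le_trans ?_ ((Subgroup.map_mono h1).trans (Subgroup.le_normalizer_map _))
    rw [map_cj_cj, inv_mul_cancel, map_cj_one]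
  have hn2 : M.map (cj t) ≤ normalizer (X' : Set G) := by
    refine le_trans ?_ ((Subgroup.map_mono h2).trans (Subgroup.le_normalizer_map _))
    rw [map_cj_cj, hu, show i + 1 + k = i + k + 1 by omega, zpow_add_one, ← mul_assoc, inv_mul_cancel, one_mul]
  rw [hD.maximal X' hX'ne hX'M hn1] at hn2
  have hMt : M.map (cj t) = M := Subgroup.eq_of_le_of_card_ge hn2 (card_map_cj t M).ge
  apply hD.ne
  show (M ⊓ M.map (cj t)).map (cj t) = M ⊓ M.map (cj t)
  rw [hMt, inf_idem, hMt]

end Cfsg.Agent.PermGroups.CubicSuborbit
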